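import Cfsg.Agent.Lib.Blocks.Order95040.Degrees
import Cfsg.Agent.Lib.Blocks.Order95040.Sylow

/-!
Owner: helper11. In a simple group of order `95040` some degree is divisible by `55` and some by `33`.
-/

set_option autoImplicit false

namespace CfsgLib.CharDegree.GraphMTwelve

open Cfsg CfsgLib CfsgLib.Char CfsgLib.CharIntegral CfsgLib.Blocks CfsgLib.Blocks.Order95040
open scoped Classical

theorem eleven_multipliers : ∀ a ∈ List.range 22, 8640 % a = 0 → a % 5 ≠ 0 →
    a ∈ [1, 2, 3, 4, 6, 8, 9, 12, 16, 18] := by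
  decide +kernel

variable {G : Type*} [Group G] [Fintype G] [IsSimpleGroup G]

theorem exists_linked_degrees (hG : Nat.card G = 95040) :
    (∃ χ : IrrCharacter G, 55 ∣ deg χ) ∧ ∃ χ : IrrCharacter G, 33 ∣ deg χ := by
  have := Fintype.ofFinite (IrrCharacter G)
  obtain ⟨z, hz⟩ := exists_prime_orderOf_dvd_card' (G := G) 11 (hp := ⟨by norm_num⟩)
    (by rw [hG]; norm_num)
  obtain ⟨D⟩ := exists_elevenData hG hz
  obtain ⟨F⟩ := exists_fiveData hG D
  obtain ⟨K⟩ := exists_degData hG F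
  have hxk := five_powers F.hx F.hnx
  have hxint : ∀ χ : IrrCharacter G, ∃ u : ℤ, (χ : G → ℂ) F.x = (u : ℂ) := fun χ =>
    exists_int_value χ fun m hm => by
      rw [← pow_mod_orderOf, F.hx]
      refine hxk _ (Nat.pos_of_ne_zero fun h0 => ?_) (Nat.mod_lt _ (by norm_num))
      rw [F.hx] at hm
      have := Nat.eq_one_of_dvd_coprimes hm (Nat.dvd_of_mod_eq_zero h0) dvd_rfl
      omega
  choose wx hwx using hxint
  have hcongd : ∀ χ : IrrCharacter G, (5 : ℤ) ∣ (deg χ : ℤ) - wx χ := fun χ => by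
    have h := value_congr (p := 5) (A := 1) (B := 0) (by norm_num) (g := F.x) (by rw [F.hx]) χ
      (u := wx χ) (v := (deg χ : ℤ))
      (fun k h1 h2 => by
        rw [mul_one, add_zero]
        obtain ⟨c, hc⟩ := isConj_iff.1 (hxk k h1 h2)
        have h3 := IsIrr.isClassFunction χ.2 (F.x ^ k) c
        rw [hc, hwx] at h3
        exact h3.symm)
      (by rw [pow_zero, deg_cast]; norm_num)
    exact_mod_cast h
  have h5z : ∀ χ : IrrCharacter G, deg χ % 5 = 0 → wx χ = 0 := fun χ hd => by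
    have hd' : 5 ^ 1 ∣ deg χ := by simpa using Nat.dvd_of_mod_eq_zero hd
    have a := vanish hG (p := 5) (n := 1) (by norm_num) (by norm_num) (by norm_num) hd'
      (x := F.x) (by rw [F.hx])
    rw [hwx] at a
    exact_mod_cast a
  have cast_eq : ∀ {a b : ℤ}, (a : ℂ) = (b : ℂ) → a = b := fun h => by exact_mod_cast h
  have hb1Y : F.b1 ∈ D.Y := by rw [F.hY]; exact Finset.mem_insert_self _ _
  have hb2Y : F.b2 ∈ D.Y := by rw [F.hY]; exact Finset.mem_insert_of_mem (Finset.mem_singleton_self _)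
  have x54 : wx F.a54 = -1 := cast_eq (by rw [← hwx, F.x54]; norm_num)
  have x144 : wx F.a144 = -1 := cast_eq (by rw [← hwx, F.x144]; norm_num)
  have x1 : wx F.b1 = 1 := cast_eq (by rw [← hwx, F.x16 _ hb1Y]; norm_num)
  have x2 : wx F.b2 = 1 := cast_eq (by rw [← hwx, F.x16 _ hb2Y]; norm_num)
  have xt : wx (trivChar G) = 1 := cast_eq (by rw [← hwx, trivChar_apply]; norm_num)
  have x45 : wx F.a45 = 0 := cast_eq (by rw [← hwx, F.x45]; norm_num)
  have x120 : wx F.a120 = 0 := cast_eq (by rw [← hwx, F.x120]; norm_num)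
  set E := Finset.univ.filter fun χ : IrrCharacter G => 11 ∣ deg χ with hE
  set R := E.filter fun χ : IrrCharacter G => deg χ % 5 ≠ 0 with hR
  have hzero : ∀ (f : IrrCharacter G → ℤ), (∀ χ, deg χ % 5 = 0 → f χ = 0) →
      ∑ χ ∈ E, f χ = ∑ χ ∈ R, f χ := fun f hf => by
    rw [hR]
    refine (Finset.sum_filter_of_ne (p := fun χ : IrrCharacter G => deg χ % 5 ≠ 0) ?_).symm
    exact fun χ _ hne h => hne (hf χ h)
  have hRxx : ∑ χ ∈ R, wx χ * wx χ = 5 := by
    have h : ∑ χ, wx χ * wx χ = 10 := by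
      rw [orth_int hwx hwx, if_pos (IsConj.refl _)]
      exact congrArg Nat.cast F.cent_x
    rw [sum_split F, hzero _ fun χ h => by rw [h5z χ h]; rfl, xt, x45, x54, x120, x144, x1, x2] at h
    linarith
  have hdt : deg (trivChar G) = 1 := deg_trivChar
  have hRd : ∑ χ ∈ R, wx χ * (deg χ : ℤ) = 165 := by
    have hone : ∀ χ : IrrCharacter G, (χ : G → ℂ) 1 = (((deg χ : ℕ) : ℤ) : ℂ) := fun χ => by
      rw [deg_cast]; norm_num
    have h : ∑ χ, wx χ * (deg χ : ℤ) = 0 := by
      rw [orth_int hwx hone, if_neg]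
      intro hc
      obtain ⟨c, hc'⟩ := isConj_iff.1 hc
      have h1 := congrArg orderOf hc'
      rw [Order7920.orderOf_conj_eq', F.hx, orderOf_one] at h1
      norm_num at h1
    rw [sum_split F, hzero _ fun χ h => by rw [h5z χ h, zero_mul], xt, x45, x54, x120, x144, x1,
      x2, hdt, F.d54, F.d144, F.d1, F.d2] at h
    push_cast at h
    linarith
  have hEsq : ∑ χ ∈ E, deg χ * deg χ = 54450 := by
    have h := sum_deg_sq hG
    rw [sum_split F, hdt, F.d45, F.d54, F.d120, F.d144, F.d1, F.d2] at h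
    rw [hE]
    linarith
  have hRsub : R ⊆ E := Finset.filter_subset _ _
  have hRle : ∑ χ ∈ R, deg χ * deg χ ≤ 54450 :=
    hEsq ▸ Finset.sum_le_sum_of_subset hRsub
  have hR11 : ∀ χ ∈ R, 11 ∣ deg χ ∧ deg χ % 5 ≠ 0 := fun χ hχ =>
    ⟨(Finset.mem_filter.1 (hRsub hχ)).2, (Finset.mem_filter.1 hχ).2⟩
  have hRne : ∀ χ ∈ R, 1 ≤ wx χ * wx χ := fun χ hχ => by
    have h0 : wx χ ≠ 0 := fun e => by
      have h := hcongd χ
      have := (hR11 χ hχ).2
      rw [e] at h
      omega
    have := mul_self_pos.2 h0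
    omega
  have hRcard : (R.card : ℤ) ≤ 5 := by
    have := Finset.sum_le_sum hRne
    rw [Finset.sum_const, nsmul_eq_mul, mul_one, hRxx] at this
    exact this
  have hpm : ∀ χ ∈ R, -2 ≤ wx χ ∧ wx χ ≤ 2 := fun χ hχ => by
    have := Finset.single_le_sum (f := fun χ => wx χ * wx χ) (fun χ _ => mul_self_nonneg _) hχ
    rw [hRxx] at this
    constructor <;> nlinarith
  -- the value at the element of order five is the balanced residue of the degree
  let sg : ℕ → ℤ := fun d => if d % 5 ≤ 2 then (d % 5 : ℕ) else (d % 5 : ℕ) - 5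
  have hRdeg : ∀ χ ∈ R, deg χ ∈ [11, 22, 33, 44, 66, 88, 99, 132, 176, 198] ∧ wx χ = sg (deg χ) := by
    intro χ hχ
    obtain ⟨a, ha⟩ := (hR11 χ hχ).1
    obtain ⟨hd, -, -⟩ := deg_facts hG χ
    have hm := hcongd χ
    have h5 := (hR11 χ hχ).2
    have hsq := (Finset.single_le_sum (f := fun ψ => deg ψ * deg ψ) (fun _ _ => Nat.zero_le _) hχ).trans hRle
    have ha21 : a ≤ 21 := by rw [ha] at hsq; nlinarith
    have hw := hpm χ hχ
    rw [ha] at hd hm h5
    push_cast at hm
    have hda : 8640 % a = 0 := Nat.mod_eq_zero_of_dvd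
      (Nat.dvd_of_mul_dvd_mul_left (by norm_num : 0 < 11) (by simpa using hd))
    have hmem := eleven_multipliers a (List.mem_range.2 (by omega)) hda (by omega)
    simp only [List.mem_cons, List.not_mem_nil, or_false] at hmem ⊢
    refine ⟨by omega, ?_⟩
    simp only [sg, ha]
    split_ifs <;> omega
  set f : ℕ → ℕ := fun d => (R.filter fun χ => deg χ = d).card with hf
  have hfib : ∀ g : ℕ → ℤ, ∑ χ ∈ R, g (deg χ) =
      f 11 * g 11 + f 22 * g 22 + f 33 * g 33 + f 44 * g 44 + f 66 * g 66 + f 88 * g 88 +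
        f 99 * g 99 + f 132 * g 132 + f 176 * g 176 + f 198 * g 198 := by
    intro g
    have h := Finset.sum_fiberwise_of_maps_to (s := R) (t := ({11, 22, 33, 44, 66, 88, 99, 132, 176, 198} : Finset ℕ))
      (g := fun χ => deg χ) (fun χ hχ => by simpa using (hRdeg χ hχ).1) (fun χ => g (deg χ))
    rw [← h]
    have h' : ∀ d : ℕ, ∑ χ ∈ R.filter (fun χ => deg χ = d), g (deg χ) = f d * g d := fun d => by
      rw [Finset.sum_congr rfl fun χ hχ => by rw [(Finset.mem_filter.1 hχ).2], Finset.sum_const,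
        nsmul_eq_mul]
    simp only [Finset.sum_insert, Finset.mem_insert, Finset.mem_singleton, Finset.sum_singleton, h',
      Nat.reduceEqDiff, or_self, not_false_eq_true]
    ring
  have hc := hfib fun d => sg d * sg d
  rw [← Finset.sum_congr rfl fun χ hχ => show wx χ * wx χ = sg (deg χ) * sg (deg χ) by rw [(hRdeg χ hχ).2], hRxx] at hc
  have hl := hfib fun d => sg d * d
  rw [← Finset.sum_congr rfl fun χ hχ => show wx χ * (deg χ : ℤ) = sg (deg χ) * (deg χ : ℤ) by rw [(hRdeg χ hχ).2], hRd] at hl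
  have hs := hfib fun d => (d : ℤ) * d
  have hcast : ((∑ χ ∈ R, deg χ * deg χ : ℕ) : ℤ) = ∑ χ ∈ R, (deg χ : ℤ) * deg χ := by push_cast; rfl
  rw [hs] at hcast
  simp only [sg, Nat.reduceMod, Nat.reduceLeDiff, if_true, if_false, nsmul_eq_mul] at hc hl
  have hone : f 11 ≤ 2 := by
    refine (Finset.card_le_card (t := ({K.c1, K.c2} : Finset (IrrCharacter G))) fun χ hχ => ?_).trans
      Finset.card_le_two
    rcases K.only χ (Finset.mem_filter.1 hχ).2 with rfl | rfl <;> simp
  push_cast at hcast hc hl hRle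
  refine ⟨?_, ?_⟩
  · by_contra hno
    push Not at hno
    have hER : ∑ χ ∈ R, deg χ * deg χ = 54450 := by
      rw [← hEsq]
      refine Finset.sum_congr (Finset.Subset.antisymm hRsub fun χ hχ => Finset.mem_filter.2 ⟨hχ, ?_⟩)
        fun _ _ => rfl
      intro h
      exact hno χ ((Nat.Coprime.mul_dvd_of_dvd_of_dvd (by norm_num : Nat.Coprime 5 11)
        (Nat.dvd_of_mod_eq_zero h) (Finset.mem_filter.1 hχ).2))
    have : ((∑ χ ∈ R, deg χ * deg χ : ℕ) : ℤ) = 54450 := by exact_mod_cast hER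
    push_cast at this
    omega
  · by_contra hno
    push Not at hno
    have hz : ∀ d : ℕ, 3 ∣ d → f d = 0 := fun d hd =>
      Finset.card_eq_zero.2 (Finset.filter_eq_empty_iff.2 fun χ hχ e => hno χ
        (Nat.Coprime.mul_dvd_of_dvd_of_dvd (by norm_num : Nat.Coprime 3 11) (e ▸ hd) (hR11 χ hχ).1))
    have := hz 33 (by norm_num)
    have := hz 66 (by norm_num)
    have := hz 99 (by norm_num)
    have := hz 132 (by norm_num)
    have := hz 198 (by norm_num)
    have : ((∑ χ ∈ R, deg χ * deg χ : ℕ) : ℤ) ≤ 54450 := by exact_mod_cast hRle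
    push_cast at this
    omega

end CfsgLib.CharDegree.GraphMTwelve
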