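import Cfsg.Agent.Lib.CharDegree.GraphMTwelve.Small
import Cfsg.Agent.Lib.Blocks.Order7920.Local
import Cfsg.Agent.Lib.Signalizer.Count

/-!
Owner: helper11. No simple group of order 15840 has a Frobenius normaliser of order 110.
-/

set_option autoImplicit false

namespace CfsgLib.CharDegree.GraphMTwelve

open Cfsg CfsgLib.Char CfsgLib.Blocks.PrimeSylow CfsgLib.Perm Subgroup
open CfsgLib.Blocks (charDegree_eq apply_one_eq_charDegree)
open CfsgLib.Blocks.Order95040 (deg principal_data)
open scoped ComplexConjugate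

theorem degrees_15840 : ∀ d ∈ List.range 126, 2 ≤ d → 15840 % d = 0 → d % 11 = 1 ∨ d % 11 = 10 →
    d ∈ [10, 12, 32, 45, 120] := by
  decide +kernel

section Dihedral

variable {G : Type*} [Group G]

/-- The two idempotents of a dihedral group of order twice `p` give a parity condition. -/
theorem exists_multiplicity {V : Type*} [AddCommGroup V] [Module ℂ V] [FiniteDimensional ℂ V]
    (ρ : Representation ℂ G V) (P : Subgroup G) [Fintype P] {u : G} (hu : u * u = 1)
    (huP : ∀ g ∈ P, u * g * u⁻¹ ∈ P) (r : ℂ) (hr : r = 1 ∨ r = -1) :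
    ∃ k : ℕ, (∑ g : P, ρ.character (g : G)) + r * ∑ g : P, ρ.character ((g : G) * u) =
      2 * (Fintype.card P : ℂ) * k := by
  classical
  set A : Module.End ℂ V := ∑ g : P, ρ (g : G) with hA
  set U : Module.End ℂ V := ρ u with hU
  have hU2 : U * U = 1 := by rw [hU, ← map_mul, hu, map_one]
  have hh : ∀ h : P, ρ (h : G) * A = A := by
    intro h
    rw [hA, Finset.mul_sum]
    simp only [← map_mul]
    exact Fintype.sum_equiv (Equiv.mulLeft h) _ _ fun g => rfl
  have hA2 : A * A = (Fintype.card P : ℂ) • A := by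
    conv_lhs => arg 1; rw [hA]
    rw [Finset.sum_mul, Finset.sum_congr rfl fun h _ => hh h, Finset.sum_const, Finset.card_univ]
    exact (Nat.cast_smul_eq_nsmul ℂ _ _).symm
  have hui : u⁻¹ = u := inv_eq_of_mul_eq_one_left hu
  have hcomm : A * U = U * A := by
    rw [hA, hU, Finset.sum_mul, Finset.mul_sum]
    simp only [← map_mul]
    let τ : P ≃ P :=
      { toFun := fun g => ⟨u * g * u⁻¹, huP g g.2⟩
        invFun := fun g => ⟨u * g * u⁻¹, huP g g.2⟩
        left_inv := fun g => Subtype.ext (by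
          show u * (u * g * u⁻¹) * u⁻¹ = g
          rw [hui]
          calc u * (u * g * u) * u = (u * u) * g * (u * u) := by group
            _ = g := by rw [hu, one_mul, mul_one])
        right_inv := fun g => Subtype.ext (by
          show u * (u * g * u⁻¹) * u⁻¹ = g
          rw [hui]
          calc u * (u * g * u) * u = (u * u) * g * (u * u) := by group
            _ = g := by rw [hu, one_mul, mul_one]) }
    refine Fintype.sum_equiv τ _ _ fun g => ?_
    congr 1
    show (g : G) * u = u * (u * g * u⁻¹)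
    rw [hui, ← mul_assoc, ← mul_assoc, hu, one_mul]
  have hU3 : A * U * (A * U) = (Fintype.card P : ℂ) • A := by
    rw [hcomm, mul_assoc, ← mul_assoc A U A, hcomm, mul_assoc U A A, hA2, ← mul_assoc, hU2, one_mul]
  have hc0 : (Fintype.card P : ℂ) ≠ 0 := Nat.cast_ne_zero.2 Fintype.card_pos.ne'
  set E : Module.End ℂ V := (2 * (Fintype.card P : ℂ))⁻¹ • (A + r • (A * U)) with hE
  have hidem : E * E = E := by
    have h1 : A * (A * U) = (Fintype.card P : ℂ) • (A * U) := by rw [← mul_assoc, hA2, smul_mul_assoc]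
    have h2 : A * U * A = (Fintype.card P : ℂ) • (A * U) := by
      rw [hcomm, mul_assoc, hA2, mul_smul_comm]
    rw [hE, smul_mul_smul_comm, add_mul, mul_add, mul_add, smul_mul_assoc, smul_mul_assoc,
      mul_smul_comm, mul_smul_comm, smul_smul, hA2, h1, h2, hU3]
    rcases hr with rfl | rfl
    · simp only [one_smul, one_mul]
      match_scalars <;> field_simp <;> ring
    · match_scalars <;> field_simp <;> ring
  have htr := CfsgLib.Perm.ThreePrimeOrder.trace_idempotent hidem
  refine ⟨Module.finrank ℂ (LinearMap.range E), ?_⟩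
  rw [← htr, hE, map_smul, map_add, map_smul, smul_eq_mul, smul_eq_mul]
  have e1 : LinearMap.trace ℂ V A = ∑ g : P, ρ.character (g : G) := by
    rw [hA, map_sum]; rfl
  have e2 : LinearMap.trace ℂ V (A * U) = ∑ g : P, ρ.character ((g : G) * u) := by
    rw [hA, hU, Finset.sum_mul, map_sum]
    exact Finset.sum_congr rfl fun g _ => by rw [← map_mul]; rfl
  rw [e1, e2]
  field_simp

end Dihedral

variable {G : Type*} [Group G] [Fintype G] [IsSimpleGroup G] (hnc : ¬ IsMulCommutative G)
include hnc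

theorem false_15840 (hn : Nat.card G = 15840) [Fact (Nat.Prime 11)] (P : Sylow 11 G)
    (hP : Nat.card (P : Subgroup G) = 11)
    (hN : Nat.card (normalizer ((P : Subgroup G) : Set G)) = 10 * 11)
    (hC : Nat.card (centralizer ((P : Subgroup G) : Set G)) = 11) : False := by
  classical
  haveI := Fintype.ofFinite (IrrCharacter G)
  have hperf := ThreePrimeOrder.perfect_of_nc hnc
  have hp : Nat.Prime 11 := by norm_num
  obtain ⟨V, hV⟩ := exists_setup hP P.not_dvd_index
  have hcV : Nat.card V = 1 := by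
    have := hV.card_centralizer
    rw [hC] at this
    omega
  have hVbot : V = ⊥ := Subgroup.card_eq_one.1 hcV
  obtain ⟨e, X, Y, εX, ε, -, hNe, hdisj, hXc, hYc, htriv, hX, hε, hYm, hrelg, hrel, hall⟩ :=
    principal_data hV
  have he : e = 10 := by
    rw [hN, hcV] at hNe
    omega
  subst he
  obtain ⟨x, hxP, hxo⟩ := exists_x P hP
  have hx1 : x ≠ 1 := fun h => by rw [h, orderOf_one] at hxo; norm_num at hxo
  have hPx : (P : Subgroup G) = zpowers x :=
    (eq_of_le_of_card_ge (zpowers_le.2 hxP) (le_of_eq (by rw [hP, Nat.card_zpowers, hxo]))).symm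
  have hCP : centralizer ((P : Subgroup G) : Set G) = (P : Subgroup G) := by
    refine (eq_of_le_of_card_ge ?_ (le_of_eq (by rw [hC, hP]))).symm
    intro r hr
    rw [hPx] at hr
    obtain ⟨i, rfl⟩ := mem_zpowers_iff.1 hr
    refine mem_centralizer_iff.2 fun s hs => ?_
    rw [hPx] at hs
    obtain ⟨j, rfl⟩ := mem_zpowers_iff.1 hs
    rw [← zpow_add, ← zpow_add, add_comm]
  -- an inverting involution and a commuting element of order five
  have : Fact (Nat.Prime 2) := ⟨Nat.prime_two⟩
  obtain ⟨⟨u, huN⟩, huo'⟩ := exists_prime_orderOf_dvd_card' (G := normalizer ((P : Subgroup G) : Set G)) 2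
    (by rw [hN]; norm_num)
  have huo : orderOf u = 2 := by rw [← huo', ← Subgroup.orderOf_coe]
  have huu : u * u = 1 := by rw [← pow_two, ← huo, pow_orderOf_eq_one]
  have hui : u⁻¹ = u := inv_eq_of_mul_eq_one_left huu
  have hinv : u * x * u⁻¹ = x⁻¹ := by
    have hmem : u * x * u⁻¹ ∈ zpowers x := hPx ▸ (mem_normalizer_iff.1 huN x).1 hxP
    obtain ⟨j, hj⟩ := mem_zpowers_iff.1 hmem
    have h2 : x = x ^ (j * j) := by
      calc x = u * (u * x * u⁻¹) * u⁻¹ := by
            rw [hui]
            calc x = (u * u) * x * (u * u) := by rw [huu, one_mul, mul_one]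
              _ = _ := by group
        _ = u * x ^ j * u⁻¹ := by rw [hj]
        _ = (u * x * u⁻¹) ^ j := conj_zpow.symm
        _ = x ^ (j * j) := by rw [← hj, ← zpow_mul]
    have h3 : (11 : ℤ) ∣ j * j - 1 := by
      have : x ^ (j * j - 1) = 1 := by rw [zpow_sub, zpow_one, ← h2, mul_inv_cancel]
      rw [← orderOf_dvd_iff_zpow_eq_one, hxo] at this
      exact_mod_cast this
    have h4 : (11 : ℤ) ∣ j - 1 ∨ (11 : ℤ) ∣ j + 1 :=
      (Int.prime_iff_natAbs_prime.2 (by norm_num)).dvd_or_dvd (by rwa [show (j - 1) * (j + 1) = j * j - 1 by ring])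
    rcases h4 with h4 | h4
    · exfalso
      have hxe : u * x * u⁻¹ = x := by
        rw [← hj, zpow_eq_zpow_iff_modEq.2 (show j ≡ 1 [ZMOD orderOf x] by
          rw [hxo]; exact (Int.modEq_iff_dvd.2 (by push_cast; exact h4)).symm), zpow_one]
      have huC : u ∈ centralizer ((P : Subgroup G) : Set G) := by
        refine mem_centralizer_iff.2 fun s hs => ?_
        rw [hPx] at hs
        obtain ⟨i, rfl⟩ := mem_zpowers_iff.1 hs
        exact ((show Commute u x from mul_inv_eq_iff_eq_mul.1 hxe).zpow_right i).eq.symm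
      rw [hCP] at huC
      have := orderOf_dvd_natCard (P : Subgroup G) huC
      rw [huo, hP] at this
      norm_num at this
    · rw [← hj, ← zpow_neg_one, zpow_eq_zpow_iff_modEq, hxo]
      exact (Int.modEq_iff_dvd.2 (by
        push_cast
        rw [show (-1 : ℤ) - j = -(j + 1) by ring]
        exact h4.neg_right))
  -- the characters not vanishing at `x`
  set B := X ∪ Y with hB
  have hall' := hall hVbot
  let s : ℕ → ℤ := fun d => if d % 11 = 1 then 1 else -1
  have hYone : ∃ θ, Y = {θ} := Finset.card_eq_one.1 (by omega)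
  obtain ⟨θ, rfl⟩ := hYone
  have hvan : ∀ χ : IrrCharacter G, χ ∉ B → (χ : G → ℂ) x = 0 := by
    intro χ hχ
    have hd : 11 ∣ deg χ := by
      by_contra h
      exact hχ ((hall' χ).1 h)
    obtain ⟨n, ρ, hρ, hρc'⟩ := χ.2
    have hρc := hρc'.symm
    have := hρ
    rw [hρc]
    exact CfsgLib.Char.character_eq_zero_of_defect_zero
      (fun θ hθ hE => CfsgLib.Brauer.isGeneralizedCharacter_of_elementary hθ hE) ρ (p := 11) (n := 1)
      hp (by rw [hn]; norm_num) (by rw [hn]; norm_num)
      (by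
        rw [Module.finrank_fin_fun, pow_one]
        have hn' : deg χ = n := CfsgLib.Blocks.Order95040.deg_eq_finrank hρc
        exact hn' ▸ hd) (by rw [hxo])
  have hXx : ∀ χ ∈ X, (χ : G → ℂ) x = (εX χ : ℂ) := fun χ hχ => by
    have h := (hX χ hχ).2.2 1 0 x hxP 1 (one_mem V) (by rwa [pow_one])
    rwa [pow_one, pow_zero, mul_one] at h
  have hθr := hrel θ (Finset.mem_singleton_self θ)
  have hθm := hYm θ (Finset.mem_singleton_self θ)
  have hθx : (θ : G → ℂ) x = ((-ε : ℤ) : ℂ) := by
    have hsum := sum_degree_mul_apply_of_ne_one (G := G) hx1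
    rw [← Finset.sum_subset (Finset.subset_univ B) fun ψ _ hψ => by rw [hvan ψ hψ, mul_zero],
      hB, Finset.sum_union hdisj, Finset.sum_singleton,
      Finset.sum_congr rfl fun χ hχ => by rw [hXx χ hχ, apply_one_eq_charDegree]] at hsum
    have h1 : (∑ χ ∈ X, (deg χ : ℂ) * (εX χ : ℂ)) = (ε : ℂ) * (deg θ : ℂ) := by
      have h2 : ((ε * (deg θ : ℤ) : ℤ) : ℂ) = ((∑ χ ∈ X, εX χ * (deg χ : ℤ) : ℤ) : ℂ) := by rw [hθr]
      push_cast at h2
      rw [h2]
      exact Finset.sum_congr rfl fun χ _ => mul_comm _ _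
    rw [h1, apply_one_eq_charDegree] at hsum
    have hne : (deg θ : ℂ) ≠ 0 := Nat.cast_ne_zero.2 (CfsgLib.CharDegree.charDegree_pos θ).ne'
    push_cast
    exact mul_left_cancel₀ hne (by linear_combination hsum)
  have hBs : ∀ χ ∈ B, (deg χ % 11 = 1 ∨ deg χ % 11 = 10) ∧ (χ : G → ℂ) x = (s (deg χ) : ℂ) := by
    intro χ hχ
    rcases Finset.mem_union.1 hχ with h | h
    · obtain ⟨h1, h2, -⟩ := hX χ h
      unfold Int.ModEq at h2
      have hmod : deg χ % 11 = 1 ∧ εX χ = 1 ∨ deg χ % 11 = 10 ∧ εX χ = -1 := by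
        rcases h1 with e1 | e1 <;> rw [e1] at h2 ⊢ <;> omega
      rw [hXx χ h]
      rcases hmod with ⟨a, b⟩ | ⟨a, b⟩ <;> simp [s, a, b]
    · rw [Finset.mem_singleton.1 h, hθx]
      unfold Int.ModEq at hθm
      have hmod : deg θ % 11 = 1 ∧ ε = -1 ∨ deg θ % 11 = 10 ∧ ε = 1 := by
        rcases hε with e1 | e1 <;> rw [e1] at hθm ⊢ <;> omega
      rcases hmod with ⟨a, b⟩ | ⟨a, b⟩ <;> simp [s, a, b]
  have hBc : B.card = 11 := by rw [hB, Finset.card_union_of_disjoint hdisj, hXc, Finset.card_singleton]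
  -- the values at `u`
  choose w hw using fun χ : IrrCharacter G => SelfCentDegree.exists_int_of_sq_eq_one χ huu
  haveI := Fintype.ofFinite (P : Subgroup G)
  have hux : ∀ g ∈ (P : Subgroup G), u * g * u⁻¹ ∈ (P : Subgroup G) := fun g hg =>
    (mem_normalizer_iff.1 huN g).1 hg
  have hPcard : Fintype.card (P : Subgroup G) = 11 := by rw [← Nat.card_eq_fintype_card, hP]
  have hconju : ∀ g ∈ (P : Subgroup G), IsConj (g * u) u := by
    intro g hg
    rw [hPx] at hg
    obtain ⟨i, rfl⟩ := mem_zpowers_iff.1 hg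
    refine isConj_iff.2 ⟨x ^ (5 * i), ?_⟩
    have hux' : u * x ^ (-(5 * i)) = x ^ (5 * i) * u := by
      have : u * x ^ (-(5 * i)) * u⁻¹ = x ^ (5 * i) := by
        rw [← conj_zpow, hinv, inv_zpow', neg_neg]
      exact mul_inv_eq_iff_eq_mul.1 this
    rw [← zpow_neg, mul_assoc, mul_assoc, hux', ← mul_assoc, ← mul_assoc, ← zpow_add, ← zpow_add,
      show 5 * i + i + 5 * i = (11 : ℕ) * i by push_cast; ring, zpow_mul, zpow_natCast, ← hxo,
      pow_orderOf_eq_one, one_zpow, one_mul]
  have hbound : ∀ χ ∈ B, (4 : ℤ) ∣ (deg χ : ℤ) - w χ ∧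
      0 ≤ (deg χ : ℤ) + 10 * s (deg χ) + 11 * w χ ∧ 0 ≤ (deg χ : ℤ) + 10 * s (deg χ) - 11 * w χ := by
    intro χ hχ
    refine ⟨ThreePrimeOrder.four_dvd_degree_sub hperf χ huu (hw χ), ?_⟩
    obtain ⟨n, ρ, hρ, hρc'⟩ := χ.2
    have hρc := hρc'.symm
    have hs1 : ∑ g : (P : Subgroup G), (χ : G → ℂ) g = ((deg χ : ℤ) + 10 * s (deg χ) : ℤ) := by
      have hone : ∀ g : (P : Subgroup G), g ≠ 1 → (χ : G → ℂ) g = (s (deg χ) : ℂ) := by
        intro g hg
        have hg1 : (g : G) ≠ 1 := fun h => hg (Subtype.ext h)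
        rcases Finset.mem_union.1 hχ with h | h
        · have h1 := (hX χ h).2.2 1 0 g g.2 1 (one_mem V) (by rwa [pow_one])
          rw [pow_one, pow_zero, mul_one] at h1
          rw [h1, ← hXx χ h, (hBs χ hχ).2]
        · rw [Finset.mem_singleton.1 h]
          have hg' : (θ : G → ℂ) (g : G) = ((-ε : ℤ) : ℂ) := by
            have hsum := sum_degree_mul_apply_of_ne_one (G := G) hg1
            have hgo : orderOf (g : G) = 11 := by
              have h2 := orderOf_dvd_natCard (P : Subgroup G) g.2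
              rw [hP] at h2
              exact ((Nat.dvd_prime hp).1 h2).resolve_left fun e => hg1 (orderOf_eq_one_iff.1 e)
            rw [← Finset.sum_subset (Finset.subset_univ B) fun ψ _ hψ => by
                have hd : 11 ∣ deg ψ := by
                  by_contra h'
                  exact hψ ((hall' ψ).1 h')
                obtain ⟨n', ρ', hρ', hρc''⟩ := ψ.2
                have := hρ'
                have hz : (ψ : G → ℂ) (g : G) = 0 := by
                  rw [hρc''.symm]
                  exact CfsgLib.Char.character_eq_zero_of_defect_zero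
                    (fun θ hθ hE => CfsgLib.Brauer.isGeneralizedCharacter_of_elementary hθ hE) ρ'
                    (p := 11) (n := 1) hp (by rw [hn]; norm_num) (by rw [hn]; norm_num)
                    (by
                      rw [Module.finrank_fin_fun, pow_one]
                      have hn' : deg ψ = n' := CfsgLib.Blocks.Order95040.deg_eq_finrank hρc''.symm
                      exact hn' ▸ hd) (by rw [hgo])
                rw [hz, mul_zero],
              hB, Finset.sum_union hdisj, Finset.sum_singleton,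
              Finset.sum_congr rfl fun ψ hψ => by
                rw [show (ψ : G → ℂ) g = (εX ψ : ℂ) by
                  have h1 := (hX ψ hψ).2.2 1 0 g g.2 1 (one_mem V) (by rwa [pow_one])
                  rwa [pow_one, pow_zero, mul_one] at h1, apply_one_eq_charDegree]] at hsum
            have h1 : (∑ χ ∈ X, (deg χ : ℂ) * (εX χ : ℂ)) = (ε : ℂ) * (deg θ : ℂ) := by
              have h2 : ((ε * (deg θ : ℤ) : ℤ) : ℂ) = ((∑ χ ∈ X, εX χ * (deg χ : ℤ) : ℤ) : ℂ) := by rw [hθr]
              push_cast at h2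
              rw [h2]
              exact Finset.sum_congr rfl fun χ _ => mul_comm _ _
            rw [h1, apply_one_eq_charDegree] at hsum
            have hne : (deg θ : ℂ) ≠ 0 := Nat.cast_ne_zero.2 (CfsgLib.CharDegree.charDegree_pos θ).ne'
            push_cast
            exact mul_left_cancel₀ hne (by linear_combination hsum)
          rw [hg', ← hθx, (hBs θ (Finset.mem_union_right _ (Finset.mem_singleton_self θ))).2]
      rw [← Finset.add_sum_erase _ _ (Finset.mem_univ (1 : (P : Subgroup G))), OneMemClass.coe_one,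
        apply_one_eq_charDegree, Finset.sum_congr rfl fun g hg => hone g (Finset.ne_of_mem_erase hg),
        Finset.sum_const, Finset.card_erase_of_mem (Finset.mem_univ _), Finset.card_univ, hPcard]
      simp
    have hs2 : ∑ g : (P : Subgroup G), (χ : G → ℂ) ((g : G) * u) = ((11 * w χ : ℤ) : ℂ) := by
      have hgu : ∀ g : (P : Subgroup G), (χ : G → ℂ) ((g : G) * u) = (w χ : ℂ) := fun g => by
        obtain ⟨c, hc⟩ := isConj_iff.1 (hconju g g.2)
        have h := IsIrr.isClassFunction χ.2 ((g : G) * u) c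
        rw [hc, hw χ] at h
        exact h.symm
      rw [Finset.sum_congr rfl fun g _ => hgu g,
        Finset.sum_const, Finset.card_univ, hPcard]
      simp
    rw [hρc] at hs1 hs2
    obtain ⟨k1, hk1⟩ := exists_multiplicity ρ (P : Subgroup G) huu hux 1 (Or.inl rfl)
    obtain ⟨k2, hk2⟩ := exists_multiplicity ρ (P : Subgroup G) huu hux (-1) (Or.inr rfl)
    rw [hs1, hs2, hPcard] at hk1 hk2
    have h1 : (deg χ : ℤ) + 10 * s (deg χ) + 11 * w χ = 22 * k1 := by
      have : (((deg χ : ℤ) + 10 * s (deg χ) + 11 * w χ : ℤ) : ℂ) = ((22 * k1 : ℤ) : ℂ) := by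
        push_cast at hk1 ⊢
        linear_combination hk1
      exact_mod_cast this
    have h2 : (deg χ : ℤ) + 10 * s (deg χ) - 11 * w χ = 22 * k2 := by
      have : (((deg χ : ℤ) + 10 * s (deg χ) - 11 * w χ : ℤ) : ℂ) = ((22 * k2 : ℤ) : ℂ) := by
        push_cast at hk2 ⊢
        linear_combination hk2
      exact_mod_cast this
    omega
  -- degrees
  have ht : trivChar G ∈ B := htriv
  have hdt : deg (trivChar G) = 1 := charDegree_eq (by rw [trivChar_apply, Nat.cast_one])
  have hwt : w (trivChar G) = 1 := by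
    have h := hw (trivChar G)
    rw [trivChar_apply] at h
    exact_mod_cast h.symm
  set B' := B.erase (trivChar G) with hB'
  have hB'c : B'.card = 10 := by rw [hB', Finset.card_erase_of_mem ht, hBc]
  have hdeg : ∀ χ ∈ B', (deg χ = 12 ∧ w χ = 0) ∨ (deg χ = 32 ∧ w χ = 0) ∨
      (deg χ = 45 ∧ (w χ = 5 ∨ w χ = 1 ∨ w χ = -3)) ∨ deg χ = 120 := by
    intro χ hχ
    have hχB := Finset.mem_of_mem_erase hχ
    have hd2 : 2 ≤ deg χ := by
      have := ne_one_of_ne_triv (G := G) hperf (Finset.ne_of_mem_erase hχ)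
      have : 0 < deg χ := CfsgLib.CharDegree.charDegree_pos χ
      omega
    have hd : 15840 % deg χ = 0 := hn ▸ Nat.mod_eq_zero_of_dvd (charDegree_dvd_card χ)
    have hsq := deg_sq_le χ
    rw [hn] at hsq
    have hlt : deg χ < 126 := by
      by_contra h
      have := Nat.mul_le_mul (Nat.le_of_not_lt h) (Nat.le_of_not_lt h)
      omega
    have h10 := degrees_15840 _ (List.mem_range.2 hlt) hd2 hd (hBs χ hχB).1
    simp only [List.mem_cons, List.not_mem_nil, or_false] at h10
    obtain ⟨⟨m, hm⟩, h1, h2⟩ := hbound χ hχB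
    rcases h10 with h | h | h | h | h <;> simp only [h, s, Nat.reduceMod, if_true, if_false,
      Nat.reduceEqDiff, Nat.cast_ofNat, true_and, false_and, or_false, false_or] at h1 h2 hm ⊢ <;>
      omega
  set f : ℕ → ℕ := fun d => (B'.filter fun χ => deg χ = d).card with hf
  have hfib : ∀ g : ℕ → ℤ, ∑ χ ∈ B', g (deg χ) =
      f 12 * g 12 + f 32 * g 32 + f 45 * g 45 + f 120 * g 120 := by
    intro g
    have h := Finset.sum_fiberwise_of_maps_to (s := B') (t := ({12, 32, 45, 120} : Finset ℕ))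
      (g := fun χ => deg χ) (fun χ hχ => by
        rcases hdeg χ hχ with ⟨h, -⟩ | ⟨h, -⟩ | ⟨h, -⟩ | h <;> simp [h]) (fun χ => g (deg χ))
    rw [← h]
    have h' : ∀ d : ℕ, ∑ χ ∈ B'.filter (fun χ => deg χ = d), g (deg χ) = f d * g d := fun d => by
      rw [Finset.sum_congr rfl fun χ hχ => by rw [(Finset.mem_filter.1 hχ).2], Finset.sum_const,
        nsmul_eq_mul]
    simp only [Finset.sum_insert, Finset.mem_insert, Finset.mem_singleton, Finset.sum_singleton, h',
      Nat.reduceEqDiff, or_self, not_false_eq_true]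
    ring
  have hzero : ∀ g : G, ¬ 11 ∣ orderOf g →
      ∑ χ ∈ B, (s (deg χ) : ℂ) * (χ : G → ℂ) g = 0 := by
    intro g hg
    rw [hB, Finset.sum_union hdisj, Finset.sum_singleton,
      Finset.sum_congr rfl fun χ hχ => show (s (deg χ) : ℂ) * (χ : G → ℂ) g = (εX χ : ℂ) * (χ : G → ℂ) g by
        rw [← (hBs χ (Finset.mem_union_left _ hχ)).2, hXx χ hχ],
      ← hrelg θ (Finset.mem_singleton_self θ) g hg,
      ← (hBs θ (Finset.mem_union_right _ (Finset.mem_singleton_self θ))).2, hθx]
    push_cast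
    ring
  have hcount := hfib fun _ => 1
  rw [Finset.sum_const, hB'c] at hcount
  have hrel1 : ∑ χ ∈ B', s (deg χ) * (deg χ : ℤ) = -1 := by
    have h := hzero 1 (by rw [orderOf_one]; norm_num)
    simp only [apply_one_eq_charDegree] at h
    rw [← Finset.add_sum_erase B _ ht, ← hB'] at h
    have h' : ((∑ χ ∈ B', s (deg χ) * (deg χ : ℤ) : ℤ) : ℂ) = ((-1 : ℤ) : ℂ) := by
      rw [show charDegree (trivChar G : G → ℂ) = 1 from hdt] at h
      rw [show s (deg (trivChar G)) = 1 by rw [hdt]; rfl] at h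
      push_cast at h ⊢
      linear_combination h
    exact_mod_cast h'
  rw [hfib fun d => s d * d] at hrel1
  have hsq : (f 12 : ℤ) * 144 + f 32 * 1024 + f 45 * 2025 + f 120 * 14400 < 15840 := by
    have h := CfsgLib.Blocks.Order95040.sum_sq_deg_le B
    rw [hn, ← Finset.add_sum_erase B _ ht, ← hB', hdt] at h
    have h1 := hfib fun d => (d : ℤ) * d
    have h2 : ((∑ χ ∈ B', deg χ * deg χ : ℕ) : ℤ) = ∑ χ ∈ B', (deg χ : ℤ) * deg χ := by push_cast; rfl
    rw [h1] at h2
    omega
  simp only [s, Nat.reduceMod, if_true, if_false, Nat.reduceEqDiff, nsmul_eq_mul] at hrel1 hcount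
  have h45 : (B'.filter fun χ => deg χ = 45).card = 3 := by
    show f 45 = 3
    omega
  have h120 : f 120 = 0 := by omega
  have hno120 : ∀ χ ∈ B', deg χ ≠ 120 := fun χ hχ h => by
    have : 0 < (B'.filter fun χ => deg χ = 120).card := Finset.card_pos.2 ⟨χ, Finset.mem_filter.2 ⟨hχ, h⟩⟩
    change 0 < f 120 at this
    omega
  obtain ⟨a, b, c, hab, hac, hbc, habc⟩ := Finset.card_eq_three.1 h45
  have hmem45 : ∀ χ ∈ ({a, b, c} : Finset (IrrCharacter G)), χ ∈ B' ∧ deg χ = 45 := fun χ hχ =>
    Finset.mem_filter.1 (habc ▸ hχ)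
  have hrest : ∀ χ ∈ B', χ ∉ ({a, b, c} : Finset (IrrCharacter G)) → w χ = 0 := by
    intro χ hχ hn45
    rcases hdeg χ hχ with ⟨-, h⟩ | ⟨-, h⟩ | ⟨h, -⟩ | h
    · exact h
    · exact h
    · exact absurd (habc ▸ Finset.mem_filter.2 ⟨hχ, h⟩) hn45
    · exact absurd h (hno120 χ hχ)
  have hsub : ({a, b, c} : Finset (IrrCharacter G)) ⊆ B' := fun χ hχ => (hmem45 χ hχ).1
  have hsum45 : ∀ g : IrrCharacter G → ℂ, (∀ χ ∈ B', w χ = 0 → g χ = 0) →
      ∑ χ ∈ B', g χ = g a + g b + g c := by
    intro g hg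
    rw [← Finset.sum_subset hsub fun χ hχ hno => hg χ hχ (hrest χ hχ hno),
      Finset.sum_insert (by simp [hab, hac]), Finset.sum_pair hbc]
    ring
  have hwv : ∀ χ ∈ ({a, b, c} : Finset (IrrCharacter G)), deg χ = 45 ∧ (w χ = 5 ∨ w χ = 1 ∨ w χ = -3) := by
    intro χ hχ
    obtain ⟨h1, h2⟩ := hmem45 χ hχ
    rcases hdeg χ h1 with ⟨h, -⟩ | ⟨h, -⟩ | ⟨-, h⟩ | h
    · omega
    · omega
    · exact ⟨h2, h⟩
    · omega
  have ha := hwv a (by simp)
  have hb := hwv b (by simp)
  have hc := hwv c (by simp)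
  have huord : ¬ 11 ∣ orderOf u := by rw [huo]; norm_num
  have hlin : w a + w b + w c = -1 := by
    have h := hzero u huord
    rw [← Finset.add_sum_erase B _ ht, ← hB', hsum45 (fun χ => (s (deg χ) : ℂ) * (χ : G → ℂ) u)
      (fun χ _ h0 => by rw [hw χ, h0]; simp), hw, hw, hw, hw, hdt, hwt, ha.1, hb.1, hc.1] at h
    have h' : ((w a + w b + w c : ℤ) : ℂ) = ((-1 : ℤ) : ℂ) := by
      simp only [s, Nat.one_mod, Nat.reduceMod, if_true] at h
      push_cast at h ⊢
      linear_combination h
    exact_mod_cast h'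
  -- class multiplication
  set K := CfsgLib.CharIntegral.classFinset u with hK
  have hcol : ∀ g : G, ∑ χ : IrrCharacter G, (χ : G → ℂ) g * conj ((χ : G → ℂ) x) =
      if IsConj g x then (11 : ℂ) else 0 := fun g => by
    rw [column_orthogonality]
    split_ifs with h
    · obtain ⟨d, hd⟩ := isConj_iff.1 h
      have hcx : Nat.card (centralizer ({x} : Set G)) = 11 := by
        rw [hV.centralizer_singleton hxP hx1]
        exact hC
      have hcg : Nat.card (centralizer ({g} : Set G)) = Nat.card (centralizer ({x} : Set G)) := by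
        refine Nat.card_congr
          { toFun := fun z => ⟨d * z * d⁻¹, mem_centralizer_singleton_iff.2 (by
              rw [← hd]
              calc d * (z : G) * d⁻¹ * (d * g * d⁻¹) = d * ((z : G) * g) * d⁻¹ := by group
                _ = d * (g * z) * d⁻¹ := by rw [mem_centralizer_singleton_iff.1 z.2]
                _ = d * g * d⁻¹ * (d * z * d⁻¹) := by group)⟩
            invFun := fun z => ⟨d⁻¹ * z * d, mem_centralizer_singleton_iff.2 (by
              have hz := mem_centralizer_singleton_iff.1 z.2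
              calc d⁻¹ * (z : G) * d * g = d⁻¹ * ((z : G) * (d * g * d⁻¹)) * d := by group
                _ = d⁻¹ * (d * g * d⁻¹ * z) * d := by rw [hd, hz]
                _ = g * (d⁻¹ * z * d) := by group)⟩
            left_inv := fun z => Subtype.ext (by show d⁻¹ * (d * z * d⁻¹) * d = z; group)
            right_inv := fun z => Subtype.ext (by show d * (d⁻¹ * z * d) * d⁻¹ = z; group) }
      rw [hcg, hcx]
      norm_num
    · rfl
  have hswap : ∑ a ∈ K, ∑ χ : IrrCharacter G, (χ : G → ℂ) (a * u) * conj ((χ : G → ℂ) x) =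
      (centralizer ({u} : Set G)).index *
        ∑ χ : IrrCharacter G, (χ : G → ℂ) u * (χ : G → ℂ) u / (χ : G → ℂ) 1 * conj ((χ : G → ℂ) x) := by
    rw [Finset.sum_comm, Finset.mul_sum]
    refine Finset.sum_congr rfl fun χ _ => ?_
    rw [← Finset.sum_mul, hK, CfsgLib.Blocks.Order7920.sum_class_mul]
    ring
  rw [Finset.sum_congr rfl fun a _ => hcol (a * u), ← Finset.sum_filter, Finset.sum_const] at hswap
  set m := (K.filter fun a => IsConj (a * u) x).card
  have hside : ∑ χ : IrrCharacter G, (χ : G → ℂ) u * (χ : G → ℂ) u / (χ : G → ℂ) 1 * conj ((χ : G → ℂ) x) =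
      1 + ((w a : ℂ) * w a + (w b : ℂ) * w b + (w c : ℂ) * w c) / 45 := by
    rw [← Finset.sum_subset (Finset.subset_univ B) fun ψ _ hψ => by rw [hvan ψ hψ, map_zero, mul_zero],
      ← Finset.add_sum_erase B _ ht, ← hB',
      hsum45 (fun χ => (χ : G → ℂ) u * (χ : G → ℂ) u / (χ : G → ℂ) 1 * conj ((χ : G → ℂ) x))
        (fun χ _ h0 => by rw [hw χ, h0]; simp)]
    simp only [(hBs _ ht).2, (hBs _ (Finset.mem_of_mem_erase (hsub (show a ∈ _ by simp)))).2,
      (hBs _ (Finset.mem_of_mem_erase (hsub (show b ∈ _ by simp)))).2,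
      (hBs _ (Finset.mem_of_mem_erase (hsub (show c ∈ _ by simp)))).2, apply_one_eq_charDegree, hw,
      hwt, ha.1, hb.1, hc.1, hdt, s, Nat.one_mod, Nat.reduceMod, if_true, Int.cast_one, map_one]
    push_cast
    ring
  rw [hside, nsmul_eq_mul] at hswap
  set C := Nat.card (centralizer ({u} : Set G))
  set i := (centralizer ({u} : Set G)).index
  have hiC : (i : ℤ) * C = 15840 := by
    have := (centralizer ({u} : Set G)).index_mul_card
    rw [hn] at this
    exact_mod_cast this
  have hid : (i : ℤ) * (45 + (w a * w a + w b * w b + w c * w c)) = 495 * m := by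
    have h : (((i : ℤ) * (45 + (w a * w a + w b * w b + w c * w c)) : ℤ) : ℂ) = ((495 * (m : ℤ) : ℤ) : ℂ) := by
      push_cast
      linear_combination (-45 : ℂ) * hswap
    exact_mod_cast h
  -- five divides the centraliser of `u`
  have hfive : 5 ∣ C := by
    set N := normalizer ((P : Subgroup G) : Set G) with hNdef
    have hinvP : ∀ z : G, z * x * z⁻¹ = x⁻¹ → z * u ∈ (P : Subgroup G) := by
      intro z hz
      have hz2 : z⁻¹ * x⁻¹ * z = x := by rw [← hz]; group
      rw [← hCP]
      refine mem_centralizer_iff.2 fun r hr => ?_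
      rw [hPx] at hr
      obtain ⟨k, rfl⟩ := mem_zpowers_iff.1 hr
      have : z * u * x * (z * u)⁻¹ = x := by
        calc z * u * x * (z * u)⁻¹ = z * (u * x * u⁻¹) * z⁻¹ := by group
          _ = (z * x * z⁻¹)⁻¹ := by rw [hinv]; group
          _ = x := by rw [hz, inv_inv]
      exact ((show Commute (z * u) x from mul_inv_eq_iff_eq_mul.1 this).zpow_right k).eq.symm
    let uN : N := ⟨u, huN⟩
    have hclass : Nat.card {y : N // IsConj uN y} = 11 := by
      rw [← hP]
      refine Nat.card_congr (Equiv.ofBijective (fun y => ⟨((y.1 : N) : G) * u, hinvP _ ?_⟩) ⟨?_, ?_⟩)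
      · obtain ⟨⟨g, hg⟩, e⟩ := isConj_iff.1 y.2
        have hy : ((y.1 : N) : G) = g * u * g⁻¹ := by rw [← e]; rfl
        have hgx : g⁻¹ * x * g⁻¹⁻¹ ∈ zpowers x := hPx ▸ (mem_normalizer_iff.1 (inv_mem hg) x).1 hxP
        obtain ⟨k, hk⟩ := mem_zpowers_iff.1 hgx
        rw [hy]
        calc g * u * g⁻¹ * x * (g * u * g⁻¹)⁻¹ = g * (u * (g⁻¹ * x * g⁻¹⁻¹) * u⁻¹) * g⁻¹ := by group
          _ = g * (u * x ^ k * u⁻¹) * g⁻¹ := by rw [hk]
          _ = g * (x ^ k)⁻¹ * g⁻¹ := by rw [← conj_zpow, hinv, inv_zpow]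
          _ = (g * x ^ k * g⁻¹)⁻¹ := by group
          _ = x⁻¹ := by rw [hk]; group
      · intro y y' h
        exact Subtype.ext (Subtype.ext (mul_right_cancel (congrArg Subtype.val h)))
      · rintro ⟨g, hg⟩
        have hg' := hg
        rw [hPx] at hg'
        obtain ⟨i, hi⟩ := mem_zpowers_iff.1 hg'
        have hxN : x ^ (-(5 * i)) ∈ N := le_normalizer ((P : Subgroup G).zpow_mem hxP _)
        refine ⟨⟨⟨x ^ (-(5 * i)), hxN⟩ * uN * ⟨x ^ (-(5 * i)), hxN⟩⁻¹, isConj_iff.2 ⟨_, rfl⟩⟩, Subtype.ext ?_⟩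
        show x ^ (-(5 * i)) * u * (x ^ (-(5 * i)))⁻¹ * u = g
        have hux' : u * x ^ (5 * i) * u⁻¹ = x ^ (-(5 * i)) := by
          rw [← conj_zpow, hinv, inv_zpow', ]
        calc x ^ (-(5 * i)) * u * (x ^ (-(5 * i)))⁻¹ * u = x ^ (-(5 * i)) * (u * x ^ (5 * i) * u⁻¹) * (u * u) := by group
          _ = x ^ (i + (11 : ℕ) * (-i)) := by
            rw [hux', huu, mul_one, ← zpow_add]
            congr 1
            push_cast
            ring
          _ = g := by rw [zpow_add, zpow_mul, zpow_natCast, ← hxo, pow_orderOf_eq_one, one_zpow, mul_one, hi]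
    have hcc := CfsgLib.Signalizer.card_conj_class uN
    rw [hclass, show Nat.card N = 10 * 11 from hN] at hcc
    have h10 : Nat.card (centralizer ({uN} : Set N)) = 10 := by omega
    refine Dvd.dvd.trans (by rw [h10]; norm_num : 5 ∣ Nat.card (centralizer ({uN} : Set N))) ?_
    refine card_dvd_of_injective
      { toFun := fun z => ⟨((z.1 : N) : G), mem_centralizer_singleton_iff.2
          (congrArg Subtype.val (mem_centralizer_singleton_iff.1 z.2))⟩
        map_one' := rfl
        map_mul' := fun _ _ => rfl } ?_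
    intro z z' h
    exact Subtype.ext (Subtype.ext (congrArg Subtype.val h : _))
  have hC5 : (5 : ℤ) ∣ C := by exact_mod_cast hfive
  obtain ⟨q, hq⟩ := hC5
  have hw2 : w a * w a + w b * w b + w c * w c = 43 ∨ w a * w a + w b * w b + w c * w c = 11 := by
    rcases ha.2 with e1 | e1 | e1 <;> rcases hb.2 with e2 | e2 | e2 <;> rcases hc.2 with e3 | e3 | e3 <;>
      rw [e1, e2, e3] at hlin ⊢ <;> omega
  have hfin : 32 * (45 + (w a * w a + w b * w b + w c * w c)) = (m : ℤ) * C :=
    mul_left_cancel₀ (show (495 : ℤ) ≠ 0 by norm_num) (by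
      calc (495 : ℤ) * (32 * (45 + (w a * w a + w b * w b + w c * w c)))
          = (i : ℤ) * C * (45 + (w a * w a + w b * w b + w c * w c)) := by rw [hiC]; ring
        _ = C * (495 * m) := by rw [mul_comm (i : ℤ) C, mul_assoc, hid]
        _ = _ := by ring)
  rw [hq, mul_left_comm] at hfin
  rcases hw2 with e | e <;> rw [e] at hfin <;> omega

end CfsgLib.CharDegree.GraphMTwelve
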