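import Cfsg.Agent.Lib.CharDegree.GraphMTwelve.Twelve
import Cfsg.Agent.Lib.CharDegree.GraphMTwelve.Special
import Cfsg.Agent.Lib.Perm.SimpleOrders.GapRange

/-!
Owner: helper11. The orders of simple groups with order divisible by eleven and dividing `95040`.
-/

set_option autoImplicit false

namespace CfsgLib.CharDegree.GraphMTwelve

open Subgroup CfsgLib.Perm CfsgLib.Perm.SimpleOrders CfsgLib.Blocks.PrimeSylow

/-- The candidate orders that have to be examined. -/
def largeOrders : List ℕ :=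
  [6336, 9504, 10560, 11880, 15840, 19008, 23760, 31680, 47520]

theorem divisors_large : ∀ q ∈ List.range 16, 1 ≤ q → 8640 % q = 0 →
    11 * (8640 / q) ∈ largeOrders ∨ 11 * (8640 / q) = 7920 ∨ 11 * (8640 / q) = 95040 := by
  decide +kernel

/-- The tests on fixed points and on dihedral normalisers. -/
def killBasic (n k e c : ℕ) : Bool :=
  ((primesOf n).any fun q => primeB q && c % q == 0 && q != 11 && checkFixed n 11 q k) ||
    (e == 2 && c == 1 && checkDihedral n 11)

/-- What the tests leave open. -/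
def leaf (n k e c : ℕ) : Bool :=
  (e == 2 && 2 ≤ c && indexTwoOrders.contains n) ||
    (k == 144 && e == 5 && [2, 3, 4, 6].contains c) ||
    (n == 47520 && k == 144 && e == 10 && c == 3) ||
    (n == 31680 && k == 144 && e == 10 && c == 2) ||
    (n == 15840 && k == 144 && e == 10 && c == 1)

theorem leaf_of_open : ∀ n ∈ largeOrders, n = 11 * (n / 11) ∧ n / 11 % 11 ≠ 0 ∧ n / 11 ≠ 1 ∧
    ∀ k ∈ TwoGroups.SmallOrders.cands 11 1 (n / 11), ∀ e ∈ List.range 11, 2 ≤ e → 10 % e = 0 →
      (n / 11 / k) % e = 0 →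
      killBasic n k e (n / 11 / k / e) = true ∨ leaf n k e (n / 11 / k / e) = true := by
  decide +kernel

variable {G : Type*} [Group G] [Finite G]

/-- The centraliser is normal in the normaliser, so a power lands in it. -/
theorem pow_mem_centralizer (P : Subgroup G) {e c : ℕ} (hc : 0 < c)
    (hN : Nat.card (normalizer (P : Set G)) = 11 * (e * c))
    (hC : Nat.card (centralizer (P : Set G)) = 11 * c) {g : G} (hg : g ∈ normalizer (P : Set G)) :
    g ^ e ∈ centralizer (P : Set G) := by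
  set N := normalizer (P : Set G)
  set C := centralizer (P : Set G)
  have : (C.subgroupOf N).Normal := ⟨fun a ha b => by
    rw [mem_subgroupOf] at ha ⊢
    refine mem_centralizer_iff.2 fun r hr => ?_
    have h := mem_centralizer_iff.1 ha _ ((mem_normalizer_iff.1 (inv_mem b.2) r).1 hr)
    rw [inv_inv] at h
    push_cast
    calc r * ((b : G) * a * (b : G)⁻¹) = b * ((b : G)⁻¹ * r * b * a) * (b : G)⁻¹ := by group
      _ = b * (a * ((b : G)⁻¹ * r * b)) * (b : G)⁻¹ := by rw [h]
      _ = b * a * (b : G)⁻¹ * r := by group⟩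
  have hle : C ≤ N := centralizer_le_normalizer _
  have hidx : (C.subgroupOf N).index = e := by
    have h := index_mul_card (C.subgroupOf N)
    rw [Nat.card_congr (subgroupOfEquivOfLe hle).toEquiv, hC, hN] at h
    exact Nat.eq_of_mul_eq_mul_right (by omega : 0 < 11 * c) (by rw [h]; ring)
  have := (C.subgroupOf N).pow_index_mem ⟨g, hg⟩
  rw [hidx, mem_subgroupOf] at this
  simpa using this

/-- The same at every Sylow subgroup. -/
theorem pow_mem_centralizer_all [Fact (Nat.Prime 11)] (P : Sylow 11 G) {e c : ℕ} (hc : 0 < c)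
    (hN : Nat.card (normalizer ((P : Subgroup G) : Set G)) = 11 * (e * c))
    (hC : Nat.card (centralizer ((P : Subgroup G) : Set G)) = 11 * c) (R : Sylow 11 G) :
    ∀ g ∈ normalizer ((R : Subgroup G) : Set G), g ^ e ∈ centralizer ((R : Subgroup G) : Set G) := by
  intro g hg
  obtain ⟨h, rfl⟩ := MulAction.exists_smul_eq G P R
  have hg' : h⁻¹ * g * h ∈ normalizer ((P : Subgroup G) : Set G) := by
    refine Sylow.smul_eq_iff_mem_normalizer.1 ?_
    rw [mul_smul, mul_smul, Sylow.smul_eq_iff_mem_normalizer.2 hg, inv_smul_smul]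
  have hm := pow_mem_centralizer (P : Subgroup G) hc hN hC hg'
  have hge : g ^ e = h * (h⁻¹ * g * h) ^ e * h⁻¹ := by
    rw [← conj_pow]
    congr 1
    group
  refine mem_centralizer_iff.2 fun r hr => ?_
  rw [SetLike.mem_coe, Sylow.coe_subgroup_smul, mem_smul_pointwise_iff_exists] at hr
  obtain ⟨r0, hr0, rfl⟩ := hr
  change h * r0 * h⁻¹ * g ^ e = g ^ e * (h * r0 * h⁻¹)
  rw [hge]
  calc h * r0 * h⁻¹ * (h * (h⁻¹ * g * h) ^ e * h⁻¹) = h * (r0 * (h⁻¹ * g * h) ^ e) * h⁻¹ := by group
    _ = h * ((h⁻¹ * g * h) ^ e * r0) * h⁻¹ := by rw [mem_centralizer_iff.1 hm r0 hr0]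
    _ = _ := by group

variable {P V : Subgroup G} (hV : Setup 11 P V)
include hV

/-- The complement in the centraliser is normalised. -/
theorem conj_mem_V {g v : G} (hg : g ∈ normalizer (P : Set G)) (hv : v ∈ V) : g * v * g⁻¹ ∈ V := by
  obtain ⟨h1, h2⟩ := (hV.mem_V v).1 hv
  refine (hV.mem_V _).2 ⟨mem_centralizer_iff.2 fun r hr => ?_, ?_⟩
  · have h := mem_centralizer_iff.1 h1 _ ((mem_normalizer_iff.1 (inv_mem hg) r).1 hr)
    rw [inv_inv] at h
    calc r * (g * v * g⁻¹) = g * (g⁻¹ * r * g * v) * g⁻¹ := by group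
      _ = g * (v * (g⁻¹ * r * g)) * g⁻¹ := by rw [h]
      _ = g * v * g⁻¹ * r := by group
  · rwa [show g * v * g⁻¹ = MulAut.conj g v from rfl, MulEquiv.orderOf_eq]

omit [Finite G] in
theorem mem_V_of_dvd {q : ℕ} (hq : ¬ 11 ∣ q) {v : G} (hv : v ∈ centralizer (P : Set G))
    (h1 : v ^ q = 1) : v ∈ V :=
  (hV.mem_V v).2 ⟨hv, fun h => hq (h.trans (orderOf_dvd_of_pow_eq_one h1))⟩

/-- A normal subgroup of order three in a small complement. -/
theorem normalizer_le_of_three {v : G} (hv : v ∈ V) (hvo : orderOf v = 3)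
    (hc : Nat.card V = 3 ∨ Nat.card V = 6) :
    normalizer (P : Set G) ≤ normalizer ((zpowers v : Subgroup G) : Set G) := by
  have key : ∀ y ∈ V, y ^ 3 = 1 → y ∈ zpowers v := by
    intro y hy h3
    have hW : zpowers v ≤ V := zpowers_le.2 hv
    have hcard := index_mul_card ((zpowers v).subgroupOf V)
    rw [Nat.card_congr (subgroupOfEquivOfLe hW).toEquiv, Nat.card_zpowers, hvo] at hcard
    rcases hc with h | h
    · have htop : (zpowers v).subgroupOf V = ⊤ := index_eq_one.1 (by omega)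
      have := mem_top (⟨y, hy⟩ : V)
      rwa [← htop, mem_subgroupOf] at this
    · have h2 := mul_self_mem_of_index_two (H := (zpowers v).subgroupOf V) (by omega) ⟨y, hy⟩
      rw [mem_subgroupOf] at h2
      have : y = (y * y) * (y * y) := by
        calc y = y ^ 3 * y := by rw [h3, one_mul]
          _ = _ := by simp [pow_succ, mul_assoc]
      rw [this]
      exact mul_mem h2 h2
  have hsub : ∀ g ∈ normalizer (P : Set G), ∀ y ∈ zpowers v, g * y * g⁻¹ ∈ zpowers v := by
    intro g hg y hy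
    obtain ⟨i, rfl⟩ := mem_zpowers_iff.1 hy
    rw [← conj_zpow]
    exact zpow_mem (key _ (conj_mem_V hV hg hv) (by
      rw [conj_pow, ← hvo, pow_orderOf_eq_one, mul_one, mul_inv_cancel])) i
  intro g hg
  refine mem_normalizer_iff.2 fun y => ⟨fun hy => hsub g hg y hy, fun hy => ?_⟩
  have := hsub g⁻¹ (inv_mem hg) _ hy
  rw [inv_inv, ← mul_assoc, ← mul_assoc, inv_mul_cancel, one_mul, inv_mul_cancel_right] at this
  exact this

/-- An involution is central in the normaliser when its complement is small and abelian. -/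
theorem normalizer_le_of_two {v : G} (hv : v ∈ V) (hc : Nat.card V = 2 ∨ Nat.card V = 4)
    (hpow : ∀ g ∈ normalizer (P : Set G), g ^ 5 ∈ centralizer (P : Set G)) :
    normalizer (P : Set G) ≤ normalizer ((zpowers v : Subgroup G) : Set G) := by
  classical
  have := Fintype.ofFinite G
  have : Fact (Nat.Prime 2) := ⟨Nat.prime_two⟩
  have hab : ∀ a ∈ V, ∀ b ∈ V, a * b = b * a := by
    intro a ha b hb
    have hcomm : IsMulCommutative V := by
      rcases hc with h | h
      · have := isCyclic_of_prime_card (α := V) h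
        exact ⟨⟨(IsCyclic.commGroup (α := V)).mul_comm⟩⟩
      · exact IsPGroup.isMulCommutative_of_card_eq_prime_sq (p := 2) (by rw [h]; norm_num)
    exact congrArg Subtype.val (hcomm.is_comm.comm (⟨a, ha⟩ : V) ⟨b, hb⟩)
  have hCfix : ∀ c ∈ centralizer (P : Set G), ∀ y ∈ V, c * y = y * c := by
    intro c hc' y hy
    have h44 : c ^ (11 * Nat.card V) = 1 := by
      rw [← hV.card_centralizer]
      exact orderOf_dvd_iff_pow_eq_one.1 (Subgroup.orderOf_dvd_natCard _ hc')
    have h44' : c ^ 44 = 1 := by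
      rcases hc with h | h <;> rw [h] at h44
      · rw [show 44 = 22 * 2 by norm_num, pow_mul, show c ^ 22 = 1 from h44, one_pow]
      · exact h44
    have hA : c ^ 4 ∈ P := mem_of_pow_eq_one hV.prime hV.not_dvd
      (centralizer_le_normalizer _ (pow_mem hc' 4)) (by rw [← pow_mul]; exact h44')
    have hB : c ^ 11 ∈ V := mem_V_of_dvd hV (q := 4) (by norm_num) (pow_mem hc' 11) (by
      rw [← pow_mul]; exact h44')
    have e1 : c = (c ^ 4) ^ 3 * (c ^ 11)⁻¹ := by
      rw [← pow_mul, eq_mul_inv_iff_mul_eq, ← pow_succ']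
    have c1 : Commute ((c ^ 4) ^ 3) y :=
      (show Commute (c ^ 4) y from mem_centralizer_iff.1 (hV.V_le hy) _ hA).pow_left 3
    have c2 : Commute (c ^ 11)⁻¹ y := (show Commute (c ^ 11) y from hab _ hB _ hy).inv_left
    have c3 := c1.mul_left c2
    rw [← e1] at c3
    exact c3.eq
  set N := normalizer (P : Set G)
  let φ : N →* Equiv.Perm V :=
    { toFun := fun g =>
        { toFun := fun y => ⟨g * y * (g : G)⁻¹, conj_mem_V hV g.2 y.2⟩
          invFun := fun y => ⟨(g : G)⁻¹ * y * ((g : G)⁻¹)⁻¹, conj_mem_V hV (inv_mem g.2) y.2⟩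
          left_inv := fun y => Subtype.ext (by show (g : G)⁻¹ * (g * y * (g : G)⁻¹) * ((g : G)⁻¹)⁻¹ = y; group)
          right_inv := fun y => Subtype.ext (by show (g : G) * ((g : G)⁻¹ * y * ((g : G)⁻¹)⁻¹) * (g : G)⁻¹ = y; group) }
      map_one' := Equiv.ext fun y => Subtype.ext (by simp)
      map_mul' := fun g g' => Equiv.ext fun y => Subtype.ext (by
        show ((g : G) * g') * y * ((g : G) * g')⁻¹ = g * (g' * y * (g' : G)⁻¹) * (g : G)⁻¹
        group) }
  have hfix : ∀ g : N, φ g = 1 := by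
    intro g
    have h5 : φ g ^ 5 = 1 := by
      rw [← map_pow]
      refine Equiv.ext fun y => Subtype.ext ?_
      show ((g ^ 5 : N) : G) * y * (((g ^ 5 : N) : G))⁻¹ = y
      have : ((g ^ 5 : N) : G) = (g : G) ^ 5 := SubgroupClass.coe_pow g 5
      rw [this, hCfix _ (hpow _ g.2) _ y.2, mul_inv_cancel_right]
    have hcard : Nat.card (Equiv.Perm V) ∣ 24 := by
      rw [Nat.card_perm]
      rcases hc with h | h <;> rw [h] <;> decide
    have hd : orderOf (φ g) ∣ Nat.gcd 5 24 :=
      Nat.dvd_gcd (orderOf_dvd_of_pow_eq_one h5) ((_root_.orderOf_dvd_natCard _).trans hcard)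
    exact orderOf_eq_one_iff.1 (Nat.dvd_one.1 hd)
  intro g hg
  refine centralizer_le_normalizer_zpowers (mem_centralizer_singleton_iff.2 ?_)
  have h := congrArg Subtype.val (congrArg (fun σ : Equiv.Perm V => σ ⟨v, hv⟩) (hfix ⟨g, hg⟩))
  change g * v * g⁻¹ = v at h
  exact mul_inv_eq_iff_eq_mul.1 h

omit hV P V

variable [IsSimpleGroup G]

/-- No order in the list occurs. -/
theorem not_mem_largeOrders (hnc : ¬ IsMulCommutative G) : Nat.card G ∉ largeOrders := by
  intro hmem
  have : Fact (Nat.Prime 11) := ⟨by norm_num⟩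
  haveI := Fintype.ofFinite G
  obtain ⟨hnm, hm, hm1, hleaf⟩ := leaf_of_open _ hmem
  generalize hmdef : Nat.card G / 11 = m at hnm hm hm1 hleaf
  have he' : Nat.card G = 11 ^ 1 * m := by rw [pow_one]; exact hnm
  have hm' : ¬ 11 ∣ m := fun h => hm (Nat.mod_eq_zero_of_dvd h)
  have hk := TwoGroups.SmallOrders.card_sylow_mem_cands hnc he' one_ne_zero hm' hm1
  have hall : ∀ R : Sylow 11 G, Nat.card (R : Subgroup G) = 11 := fun R => by
    rw [sylow_card_eq R he' hm', pow_one]
  obtain ⟨P⟩ := (inferInstance : Nonempty (Sylow 11 G))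
  generalize hkdef : Nat.card (Sylow 11 G) = k at hk
  have hkm : k ∣ m := hkdef ▸ card_sylow_dvd_of_card_eq he'
  have hk0 : 0 < k := hkdef ▸ Nat.card_pos
  obtain ⟨q0, hq0, hq0m⟩ := Nat.exists_prime_and_dvd hm1
  have hk1 : k ≠ 1 := fun e =>
    (card_sylow_mem he' one_ne_zero hq0 (fun e' => hm' (e' ▸ hq0m)) hq0m).2.2 (hkdef.trans e)
  have hne : ¬ IsPGroup 11 G :=
    not_isPGroup_of_dvd hq0 (fun e => hm' (e ▸ hq0m)) (by rw [hnm]; exact dvd_mul_of_dvd_right hq0m 11)
  have hN : Nat.card (normalizer ((P : Subgroup G) : Set G)) = 11 * (m / k) := by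
    have := card_normalizer_mul_card_sylow P
    rw [hkdef, hnm] at this
    refine Nat.eq_of_mul_eq_mul_right hk0 ?_
    rw [this, mul_assoc, Nat.div_mul_cancel hkm]
  obtain ⟨e, hee, hep, he1, hC⟩ :=
    TwoGroups.SmallOrders.exists_card_centralizer P (hall P) hne hN
  have he0 : 0 < e := Nat.pos_of_dvd_of_pos hep (by norm_num)
  have helt : e < 11 := by
    have := Nat.le_of_dvd (by norm_num) hep
    omega
  obtain ⟨c, hc⟩ := hee
  have hcc : Nat.card (centralizer ((P : Subgroup G) : Set G)) = 11 * c := by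
    refine Nat.eq_of_mul_eq_mul_right he0 ?_
    rw [hC, hc]; ring
  rw [hc] at hN
  have hN' : Nat.card (normalizer ((P : Subgroup G) : Set G)) = e * (11 * c) := by rw [hN]; ring
  have hc0 : 0 < c := by
    have : 0 < Nat.card (centralizer ((P : Subgroup G) : Set G)) := Nat.card_pos
    omega
  have hcdiv : m / k / e = c := by rw [hc, Nat.mul_div_cancel_left _ he0]
  have hcase := hleaf k hk e (List.mem_range.2 helt) (by omega) (Nat.mod_eq_zero_of_dvd hep)
    (by rw [hc, Nat.mul_mod_right])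
  rw [hcdiv] at hcase
  rcases hcase with h | h
  · simp only [killBasic, Bool.or_eq_true, Bool.and_eq_true, beq_iff_eq, bne_iff_ne,
      List.any_eq_true] at h
    rcases h with ⟨q, -, ⟨⟨hqB, hqc⟩, -⟩, hF⟩ | ⟨⟨he2, hc1⟩, hdih⟩
    · have hq := prime_of_primeB hqB
      haveI := Fact.mk hq
      obtain ⟨z, hz⟩ := exists_prime_orderOf_dvd_card' (G := centralizer ((P : Subgroup G) : Set G))
        q (by rw [hcc]; exact dvd_mul_of_dvd_right (Nat.dvd_of_mod_eq_zero hqc) 11)
      exact false_of_checkFixed hnc hq P hall hkdef hk1 z.2 (by rw [Subgroup.orderOf_coe, hz]) hF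
    · refine false_of_checkDihedral (by norm_num) P (hall P) hne ?_ hdih
      rw [hN, he2, hc1]
  obtain ⟨V, hV⟩ := exists_setup (hall P) P.not_dvd_index
  have hcV : Nat.card V = c := by
    have := hV.card_centralizer
    rw [hcc] at this
    omega
  have hpow := pow_mem_centralizer_all P hc0 hN hcc
  have hthree : (c = 3 ∨ c = 6) → k = 144 → Nat.Coprime 3 e → False := by
    intro hc3 hk144 hcop
    haveI : Fact (Nat.Prime 3) := ⟨Nat.prime_three⟩
    obtain ⟨v, hv⟩ := exists_prime_orderOf_dvd_card' (G := V) 3 (by rw [hcV]; omega)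
    have hvo : orderOf (v : G) = 3 := by rw [Subgroup.orderOf_coe, hv]
    exact false_of_normalized P hall (hkdef.trans hk144) hpow Nat.prime_three (Or.inr rfl) hcop hvo
      (hV.V_le v.2) (normalizer_le_of_three hV v.2 hvo (hcV.symm ▸ hc3))
  simp only [leaf, Bool.or_eq_true, Bool.and_eq_true, beq_iff_eq, decide_eq_true_eq,
    List.contains_eq_mem] at h
  rcases h with ((((⟨⟨rfl, hc2⟩, hn⟩ | ⟨⟨hk144, rfl⟩, hc4⟩) | ⟨⟨⟨-, hk144⟩, rfl⟩, rfl⟩) |
    ⟨⟨⟨hn, -⟩, rfl⟩, rfl⟩) | ⟨⟨⟨hn, -⟩, rfl⟩, rfl⟩)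
  · exact false_of_index_two hnc P (hall P) hn hc2 hN' hcc
  · simp only [List.mem_cons, List.not_mem_nil, or_false] at hc4
    have htwo : (c = 2 ∨ c = 4) → False := by
      intro hc24
      haveI : Fact (Nat.Prime 2) := ⟨Nat.prime_two⟩
      obtain ⟨v, hv⟩ := exists_prime_orderOf_dvd_card' (G := V) 2 (by rw [hcV]; omega)
      have hvo : orderOf (v : G) = 2 := by rw [Subgroup.orderOf_coe, hv]
      exact false_of_normalized P hall (hkdef.trans hk144) hpow Nat.prime_two (Or.inl rfl)
        (by norm_num) hvo (hV.V_le v.2)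
        (normalizer_le_of_two hV v.2 (hcV.symm ▸ hc24) (hpow P))
    rcases hc4 with h | h | h | h
    · exact htwo (Or.inl h)
    · exact hthree (Or.inl h) hk144 (by norm_num)
    · exact htwo (Or.inr h)
    · exact hthree (Or.inr h) hk144 (by norm_num)
  · exact hthree (Or.inl rfl) hk144 (by norm_num)
  · exact false_of_index_ten hnc P (hall P) hn hN' hcc
  · exact false_15840 hnc hn P (hall P) (by rw [hN']) (by rw [hcc])

/-- The orders of simple groups with order divisible by eleven and dividing `95040`. -/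
theorem orders_eleven (hnc : ¬ IsMulCommutative G) (h11 : 11 ∣ Nat.card G)
    (hdvd : Nat.card G ∣ 95040) :
    Nat.card G = 660 ∨ Nat.card G = 7920 ∨ Nat.card G = 95040 := by
  rcases Nat.lt_or_ge (Nat.card G) 6000 with hlt | hge
  · have h := orders_lt_six_thousand hnc hlt
    simp only [List.mem_cons, List.not_mem_nil, or_false] at h
    omega
  obtain ⟨m, hm⟩ := h11
  have hm8 : m ∣ 8640 := by
    rw [hm, show 95040 = 11 * 8640 by norm_num] at hdvd
    exact Nat.dvd_of_mul_dvd_mul_left (by norm_num) hdvd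
  obtain ⟨q, hq⟩ := hm8
  have hq0 : 1 ≤ q := Nat.one_le_iff_ne_zero.2 fun e => by rw [e] at hq; norm_num at hq
  have hq15 : q < 16 := by
    by_contra hge'
    have := Nat.mul_le_mul (show 546 ≤ m by omega) (Nat.le_of_not_lt hge')
    omega
  have hmq : 8640 / q = m := by rw [hq, Nat.mul_div_cancel _ hq0]
  have key := divisors_large q (List.mem_range.2 hq15) hq0
    (Nat.mod_eq_zero_of_dvd ⟨m, by rw [hq, mul_comm]⟩)
  rw [hmq] at key
  rcases key with h | h | h
  · exact absurd (hm ▸ h) (not_mem_largeOrders hnc)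
  · omega
  · omega

end CfsgLib.CharDegree.GraphMTwelve
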