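import Cfsg.Agent.Lib.CharDegree.Restriction
import Cfsg.Agent.Lib.Char.Complete
import Cfsg.Agent.Lib.Perm.SylowNormalizer
import Cfsg.Agent.Lib.Perm.PrimeOrderCount
import Mathlib.GroupTheory.SpecificGroups.Alternating

/-!
Owner: helper11. Restriction along a central factor, and groups of order twelve without
elements of order six.
-/

set_option autoImplicit false

namespace CfsgLib.CharDegree.GraphMTwelve

open Cfsg CfsgLib.Char CfsgLib.CharIntegral Subgroup
open scoped ComplexConjugate

variable {H : Type*} [Group H] [Finite H]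

/-- An irreducible character stays irreducible on a complement of a central subgroup. -/
theorem exists_irr_of_central_complement (K A : Subgroup H) (hA : A ≤ center H)
    (hbij : Function.Bijective fun q : K × A => (q.1 : H) * q.2) (χ : IrrCharacter H) :
    ∃ θ : IrrCharacter K, charDegree (θ : K → ℂ) = charDegree (χ : H → ℂ) := by
  classical
  have := Fintype.ofFinite H
  have := Fintype.ofFinite K
  have := Fintype.ofFinite A
  obtain ⟨n, ρ, hρ, hχ, hn⟩ := exists_rep χ
  have hn0 : (0 : ℝ) < n := by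
    have := charDegree_pos χ
    exact_mod_cast (show 0 < n by omega)
  have hval : ∀ (k : K) (a : A), ‖(χ : H → ℂ) ((k : H) * a)‖ = ‖(χ : H → ℂ) k‖ := by
    intro k a
    obtain ⟨c, hc⟩ := exists_scalar_of_mem_center ρ (hA a.2)
    have h1 := norm_character_eq_of_scalar ρ _ hc
    have h2 := character_smul_of_scalar ρ hc 1
    rw [mul_one, Representation.char_one] at h2
    have h3 : ‖c‖ = 1 := by
      rw [h2, norm_mul, Complex.norm_natCast, Module.finrank_fin_fun] at h1
      exact mul_right_cancel₀ hn0.ne' (by rw [h1, one_mul])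
    rw [← (mem_center_iff.1 (hA a.2) k).symm, ← hχ, character_smul_of_scalar ρ hc, norm_mul, h3,
      one_mul]
  have hsum := sum_norm_sq χ
  rw [← (Equiv.ofBijective _ hbij).sum_comp (fun h : H => ‖(χ : H → ℂ) h‖ ^ 2)] at hsum
  simp only [Equiv.ofBijective_apply, hval] at hsum
  rw [Fintype.sum_prod_type] at hsum
  simp only [Finset.sum_const, Finset.card_univ, nsmul_eq_mul] at hsum
  rw [← Finset.mul_sum, ← Nat.card_congr (Equiv.ofBijective _ hbij), Nat.card_prod,
    ← Nat.card_eq_fintype_card, Nat.cast_mul, mul_comm (Nat.card K : ℝ)] at hsum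
  have hA0 : (Nat.card A : ℝ) ≠ 0 := Nat.cast_ne_zero.2 Nat.card_pos.ne'
  have hK := mul_left_cancel₀ hA0 hsum
  have hinner : classInner (fun k : K => (χ : H → ℂ) k) (fun k : K => (χ : H → ℂ) k) = 1 := by
    rw [Cfsg.classInner, inv_mul_eq_iff_eq_mul₀ (Nat.cast_ne_zero.mpr Nat.card_pos.ne'), mul_one]
    simp only [Complex.mul_conj, Complex.normSq_eq_norm_sq]
    exact_mod_cast hK
  refine ⟨⟨_, IsChar.isIrr_of_classInner_eq_one (IsChar.restrict K (IsIrr.isCharacter χ.2)) hinner⟩,
    ?_⟩
  exact charDegree_eq_of_apply_one (cast_irrDegree χ).symm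

omit [Finite H] in
theorem orderOf_mul_six {a b : H} (ha : orderOf a = 2) (hb : orderOf b = 3) (h : Commute a b) :
    orderOf (a * b) = 6 := by
  rw [h.orderOf_mul_eq_mul_orderOf_of_coprime (by rw [ha, hb]; norm_num), ha, hb]

/-- A group of order twelve without elements of order six is alternating. -/
theorem nonempty_alt_four (h : Nat.card H = 12) (h6 : ∀ a : H, orderOf a ≠ 6) :
    Nonempty (H ≃* alternatingGroup (Fin 4)) := by
  classical
  haveI : Fact (Nat.Prime 3) := ⟨Nat.prime_three⟩
  haveI : Fact (Nat.Prime 2) := ⟨Nat.prime_two⟩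
  have hm : Nat.card H = 3 ^ 1 * 4 := h
  have hall : ∀ P : Sylow 3 H, Nat.card (P : Subgroup H) = 3 := fun P => by
    rw [CfsgLib.Perm.sylow_card_eq P hm (by norm_num), pow_one]
  obtain ⟨P⟩ := (inferInstance : Nonempty (Sylow 3 H))
  have hnn : ¬ (P : Subgroup H).Normal := by
    intro hn
    have hdvd := CfsgLib.Perm.relIndex_centralizer_dvd_sub_one (P : Subgroup H) (hall P)
    rw [normalizer_eq_top_iff.2 hn, relIndex_top_right] at hdvd
    have hc := index_mul_card (centralizer ((P : Subgroup H) : Set H))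
    have h2 : 2 ∣ Nat.card (centralizer ((P : Subgroup H) : Set H)) := by
      rcases (Nat.dvd_prime Nat.prime_two).1 hdvd with e | e <;> rw [e, h] at hc <;> omega
    obtain ⟨⟨a, ha⟩, hao⟩ := exists_prime_orderOf_dvd_card' (G := centralizer ((P : Subgroup H) : Set H)) 2 h2
    obtain ⟨b, hb⟩ := exists_prime_orderOf_dvd_card' (G := (P : Subgroup H)) 3 (by rw [hall])
    exact h6 _ (orderOf_mul_six (a := a) (b := (b : H)) (by rw [← hao, ← Subgroup.orderOf_coe])
      (by rw [Subgroup.orderOf_coe, hb]) (mem_centralizer_iff.1 ha b b.2).symm)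
  have hk : Nat.card (Sylow 3 H) = 4 := by
    have hdvd : Nat.card (Sylow 3 H) ∣ 4 := CfsgLib.Perm.card_sylow_dvd_of_card_eq hm
    have hmod : Nat.card (Sylow 3 H) % 3 = 1 := by simpa [Nat.ModEq] using card_sylow_modEq_one 3 H
    have hne : Nat.card (Sylow 3 H) ≠ 1 := fun e1 => by
      haveI : Subsingleton (Sylow 3 H) := (Nat.card_eq_one_iff_unique.1 e1).1
      exact hnn P.normal_of_subsingleton
    have := Nat.le_of_dvd (by norm_num) hdvd
    interval_cases hc : Nat.card (Sylow 3 H) <;> omega
  have hnorm : ∀ Q : Sylow 3 H, normalizer ((Q : Subgroup H) : Set H) = (Q : Subgroup H) := by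
    intro Q
    have hc := CfsgLib.Perm.card_normalizer_mul_card_sylow Q
    rw [hk, h] at hc
    exact (eq_of_le_of_card_ge le_normalizer (by rw [hall]; omega)).symm
  let f : H →* Equiv.Perm (Sylow 3 H) := MulAction.toPermHom H (Sylow 3 H)
  have hf : Function.Injective f := by
    rw [← MonoidHom.ker_eq_bot_iff]
    by_contra hne
    have hle : f.ker ≤ (P : Subgroup H) := fun g hg => by
      rw [← hnorm P]
      exact Sylow.smul_eq_iff_mem_normalizer.1
        (congrArg (fun σ : Equiv.Perm (Sylow 3 H) => σ P) (MonoidHom.mem_ker.1 hg))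
    have hcd := card_dvd_of_le hle
    rw [hall] at hcd
    rcases (Nat.dvd_prime Nat.prime_three).1 hcd with e | e
    · exact hne (Subgroup.card_eq_one.1 e)
    · exact hnn (eq_of_le_of_card_ge hle (by rw [hall, e]) ▸ MonoidHom.normal_ker f)
  haveI := Fintype.ofFinite (Sylow 3 H)
  let e : Sylow 3 H ≃ Fin 4 := Finite.equivFinOfCardEq hk
  let f' : H →* Equiv.Perm (Fin 4) := e.permCongrHom.toMonoidHom.comp f
  have hf' : Function.Injective f' := e.permCongrHom.injective.comp hf
  have hrange : f'.range = alternatingGroup (Fin 4) := by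
    refine Equiv.Perm.eq_alternatingGroup_of_index_eq_two ?_
    have h1 := f'.range.card_mul_index
    rw [← Nat.card_congr (MonoidHom.ofInjective hf').toEquiv, h, Nat.card_perm, Nat.card_fin] at h1
    norm_num [Nat.factorial] at h1
    omega
  exact ⟨(MonoidHom.ofInjective hf').trans (MulEquiv.subgroupCongr hrange)⟩

end CfsgLib.CharDegree.GraphMTwelve
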