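import Cfsg.Agent.Lib.CharDegree.GraphMTwelve.Orders
import Cfsg.Agent.Lib.CharDegree.GraphMTwelve.Split
import Cfsg.Agent.Lib.CharDegree.SmallSimple.Reduction
import Cfsg.Agent.Lib.Blocks.Order7920.Coords
import Cfsg.Agent.Lib.Sporadic.MathieuElevenMultiplier
import Cfsg.Agent.Lib.Sporadic.MathieuElevenAut
import Cfsg.Agent.Lib.Schur.Multiplier
import Cfsg.Agent.Lib.Char.Coherence.Filtration
import Cfsg.Agent.S4429
import Cfsg.Agent.S0421

/-!
Owner: helper11. Groups of order `95040` whose degrees link eleven with three and with five.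
-/

set_option autoImplicit false

namespace CfsgLib.CharDegree.GraphMTwelve

open Cfsg CfsgLib.CharDegree.SmallSimple Subgroup
open CfsgLib.Recog.LThreeThree5616 (card_inf_centralizer_modEq isPGroup_zpowers)
open scoped Pointwise

variable {G : Type*} [Group G] [Finite G]

theorem pow_mod_injective : ∀ e ∈ [(2, 6), (3, 3), (5, 1)], ∀ j ∈ List.range (e.2 + 1),
    ∀ i ∈ List.range j, e.1 ^ j % 11 ≠ e.1 ^ i % 11 := by
  decide +kernel

/-- An element of order eleven centralises a normal subgroup of order dividing `8640`. -/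
theorem centralizes_of_order_eleven (D : Subgroup G) [D.Normal] (hD : Nat.card D ∣ 8640) {x : G}
    (hx : orderOf x = 11) : ∀ d ∈ D, x * d = d * x := by
  classical
  have h11 : Nat.Prime 11 := by norm_num
  haveI : Fact (Nat.Prime 11) := ⟨h11⟩
  have hN : ¬ 11 ∣ Nat.card D := fun h => absurd (h.trans hD) (by norm_num)
  have hxp : IsPGroup 11 (zpowers x) := isPGroup_zpowers (k := 1) (by rw [hx, pow_one])
  have hcent : ∀ q : ℕ, q.Prime → ∀ m, q ^ m ∣ Nat.card D →
      q ^ m ∣ Nat.card (D ⊓ centralizer ({x} : Set G) : Subgroup G) := by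
    intro q hqp m hm
    rcases Nat.eq_zero_or_pos m with rfl | hm0
    · simp
    haveI : Fact q.Prime := ⟨hqp⟩
    obtain ⟨S₀⟩ := (inferInstance : Nonempty (Sylow q D))
    have hndvd : ¬ 11 ∣ Nat.card (Sylow q D) := fun h =>
      hN ((h.trans (Sylow.card_dvd_index S₀)).trans (Subgroup.index_dvd_card _))
    let φ : zpowers x →* MulAut D := MulAut.conjNormal.comp (zpowers x).subtype
    letI : MulDistribMulAction (zpowers x) D := MulDistribMulAction.compHom D φ
    obtain ⟨S, hS⟩ := hxp.nonempty_fixed_point_of_prime_not_dvd_card (Sylow q D) hndvd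
    set W := (S : Subgroup D).map D.subtype with hW
    have hinv : ∀ w ∈ W, x * w * x⁻¹ ∈ W := by
      rintro _ ⟨w, hw, rfl⟩
      have hS' := hS ⟨x, mem_zpowers _⟩
      refine ⟨(⟨x, mem_zpowers _⟩ : zpowers x) • w, ?_, rfl⟩
      have hmem := Subgroup.smul_mem_pointwise_smul w (⟨x, mem_zpowers _⟩ : zpowers x) (S : Subgroup D) hw
      have hS'' : (⟨x, mem_zpowers _⟩ : zpowers x) • (S : Subgroup D) = S :=
        congrArg (fun S : Sylow q D => (S : Subgroup D)) hS'
      exact hS'' ▸ hmem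
    obtain ⟨j, hj⟩ := IsPGroup.iff_card.1 S.2
    have hWc : Nat.card W = q ^ j := by rw [hW, card_map_of_injective D.subtype_injective, hj]
    have hmod := card_inf_centralizer_modEq (p := 11) W hinv hxp
    have hd := card_dvd_of_le (inf_le_left : W ⊓ centralizer ({x} : Set G) ≤ W)
    rw [hWc] at hd hmod
    obtain ⟨i, hij, hi⟩ := (Nat.dvd_prime_pow hqp).1 hd
    rw [hi] at hmod
    have hjd : q ^ j ∣ 8640 := hWc ▸ (card_dvd_of_le (map_subtype_le _)).trans hD
    have hij' : i = j := by
      by_contra hne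
      have hlt : i < j := lt_of_le_of_ne hij hne
      have hqd : q ∣ 8640 := (dvd_pow_self q (by omega)).trans hjd
      have hq : q = 2 ∧ j ≤ 6 ∨ q = 3 ∧ j ≤ 3 ∨ q = 5 ∧ j ≤ 1 := by
        have hmem := (Nat.mem_primeFactors_of_ne_zero (by norm_num : (8640 : ℕ) ≠ 0)).2 ⟨hqp, hqd⟩
        have h235 : q = 2 ∨ q = 3 ∨ q = 5 := by
          have h' : q ∣ 2 ^ 6 * 3 ^ 3 * 5 := by norm_num; exact hqd
          rcases hqp.dvd_mul.1 h' with h'' | h''
          · rcases hqp.dvd_mul.1 h'' with h3 | h3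
            · exact Or.inl ((Nat.prime_dvd_prime_iff_eq hqp Nat.prime_two).1 (hqp.dvd_of_dvd_pow h3))
            · exact Or.inr (Or.inl ((Nat.prime_dvd_prime_iff_eq hqp Nat.prime_three).1 (hqp.dvd_of_dvd_pow h3)))
          · exact Or.inr (Or.inr ((Nat.prime_dvd_prime_iff_eq hqp (by norm_num)).1 h''))
        rcases h235 with rfl | rfl | rfl
        · refine Or.inl ⟨rfl, ?_⟩
          by_contra h
          exact absurd ((pow_dvd_pow 2 (show 7 ≤ j by omega)).trans hjd) (by norm_num)
        · refine Or.inr (Or.inl ⟨rfl, ?_⟩)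
          by_contra h
          exact absurd ((pow_dvd_pow 3 (show 4 ≤ j by omega)).trans hjd) (by norm_num)
        · refine Or.inr (Or.inr ⟨rfl, ?_⟩)
          by_contra h
          exact absurd ((pow_dvd_pow 5 (show 2 ≤ j by omega)).trans hjd) (by norm_num)
      rcases hq with ⟨rfl, hj'⟩ | ⟨rfl, hj'⟩ | ⟨rfl, hj'⟩
      · exact pow_mod_injective (2, 6) (by simp) j (List.mem_range.2 (Nat.lt_succ_of_le hj')) i
          (List.mem_range.2 hlt) hmod
      · exact pow_mod_injective (3, 3) (by simp) j (List.mem_range.2 (Nat.lt_succ_of_le hj')) i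
          (List.mem_range.2 hlt) hmod
      · exact pow_mod_injective (5, 1) (by simp) j (List.mem_range.2 (Nat.lt_succ_of_le hj')) i
          (List.mem_range.2 hlt) hmod
    have hWC : W ≤ centralizer ({x} : Set G) :=
      inf_eq_left.1 (eq_of_le_of_card_ge inf_le_left (by rw [hWc, hi, hij']))
    have hd' := card_dvd_of_le (le_inf (map_subtype_le (S : Subgroup D)) hWC)
    rw [card_map_of_injective D.subtype_injective] at hd'
    exact (S.pow_dvd_card_of_pow_dvd_card hm).trans hd'
  have heq : D ⊓ centralizer ({x} : Set G) = D :=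
    eq_of_le_of_card_ge inf_le_left (Nat.le_of_dvd Nat.card_pos
      ((Nat.dvd_iff_prime_pow_dvd_dvd _ _).2 fun q m hq hm => hcent q hq m hm))
  intro d hd
  exact (mem_centralizer_singleton_iff.1 (inf_eq_left.1 heq hd)).symm

/-- The degrees of the smallest Mathieu group. -/
theorem degree_mem_7920 {K : Type*} [Group K] [Finite K] [IsSimpleGroup K] (hK : Nat.card K = 7920)
    (χ : IrrCharacter K) : charDegree (χ : K → ℂ) ∈ [1, 10, 11, 16, 44, 45, 55] := by
  obtain ⟨-, hm⟩ := Cfsg.Agent.S4429.result (G := K) hK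
  by_contra hno
  simp only [List.mem_cons, List.not_mem_nil, or_false, not_or] at hno
  have h := hm (charDegree (χ : K → ℂ))
  rw [if_neg (by omega), if_neg (by omega), if_neg (by omega), Nat.card_eq_zero] at h
  haveI : Finite {φ : IrrCharacter K // charDegree (φ : K → ℂ) = charDegree (χ : K → ℂ)} :=
    inferInstance
  rcases h with h | h
  · exact h.false ⟨χ, rfl⟩
  · exact not_finite {φ : IrrCharacter K // charDegree (φ : K → ℂ) = charDegree (χ : K → ℂ)}

/-- Automorphisms of a group isomorphic to `M₁₁` are inner. -/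
theorem aut_inner_of_iso {K : Type*} [Group K] (e : K ≃* ↥Spor.M11) (φ : MulAut K) :
    ∃ k : K, MulAut.conj k = φ := by
  have h := CfsgLib.Sporadic.MElevenAut.card_out
  have hsub : Subsingleton (Cfsg.Out ↥Spor.M11) := (Nat.card_eq_one_iff_unique.1 h).1
  have hmem : MulAut.congr e φ ∈ Cfsg.Inn ↥Spor.M11 :=
    (QuotientGroup.eq_one_iff _).1 (Subsingleton.elim _ 1)
  obtain ⟨m, hm⟩ := hmem
  refine ⟨e.symm m, MulEquiv.ext fun k => ?_⟩
  have h2 := congrArg e.symm (DFunLike.congr_fun hm (e k))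
  simpa [MulAut.congr] using h2

/-- The groups of order `95040` in which eleven is linked to three and to five. -/
theorem structure_of_graph (hcard : Nat.card G = 95040) (h11 : 11 ∈ degreePrimes G)
    (h55 : ∃ χ : IrrCharacter G, 55 ∣ charDegree (χ : G → ℂ))
    (h33 : ∃ χ : IrrCharacter G, 33 ∣ charDegree (χ : G → ℂ)) :
    Nonempty (G ≃* ↥Spor.M12) ∨ Nonempty (G ≃* alternatingGroup (Fin 4) × ↥Spor.M11) := by
  classical
  have hp11 : Nat.Prime 11 := by norm_num
  haveI : Fact (Nat.Prime 11) := ⟨hp11⟩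
  obtain ⟨T, hTn, hTs, hrT, hN, -⟩ :=
    exists_section (G := G) hp11 (by rw [hcard]; norm_num) (by rw [hcard]; norm_num)
  set N := pPrimeCore 11 G with hNdef
  set π := QuotientGroup.mk' N with hπ
  have hNT : Nat.card T * Nat.card N ∣ 95040 := by
    rw [← hcard, Subgroup.card_eq_card_quotient_mul_card_subgroup N]
    exact Nat.mul_dvd_mul_right T.card_subgroup_dvd_card _
  have hN8 : Nat.card N ∣ 8640 := by
    have h1 : 11 * Nat.card N ∣ 11 * 8640 := (Nat.mul_dvd_mul_right hrT _).trans hNT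
    exact Nat.dvd_of_mul_dvd_mul_left (by norm_num) h1
  have hQ : ¬ 11 ∣ T.index := by
    intro h
    have h1 := T.card_mul_index
    have h2 := Subgroup.card_eq_card_quotient_mul_card_subgroup N
    have h3 : 11 * 11 ∣ Nat.card (G ⧸ N) := h1 ▸ Nat.mul_dvd_mul hrT h
    have h4 : 11 * 11 ∣ 95040 := hcard ▸ h2 ▸ h3.mul_right _
    norm_num at h4
  -- the elements of order eleven
  have hxN : ∀ x : G, orderOf x = 11 → π x ≠ 1 := by
    intro x hx h
    have h1 : x ∈ N := (QuotientGroup.eq_one_iff x).1 h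
    have := Subgroup.orderOf_dvd_natCard N h1
    rw [hx] at this
    exact hN this
  have hxT : ∀ x : G, orderOf x = 11 → π x ∈ T := by
    intro x hx
    rw [← QuotientGroup.eq_one_iff]
    have h1 : orderOf ((π x : G ⧸ N) : (G ⧸ N) ⧸ T) ∣ 11 :=
      (orderOf_map_dvd (QuotientGroup.mk' T) (π x)).trans ((orderOf_map_dvd π x).trans (dvd_of_eq hx))
    rcases (Nat.dvd_prime hp11).1 h1 with e | e
    · exact orderOf_eq_one_iff.1 e
    · have h2 := _root_.orderOf_dvd_natCard ((π x : G ⧸ N) : (G ⧸ N) ⧸ T)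
      rw [e] at h2
      exact absurd h2 hQ
  set L := closure {x : G | orderOf x = 11} with hL
  haveI hLn : L.Normal := by
    refine ⟨fun a ha g => ?_⟩
    have hmap : L.map (MulAut.conj g).toMonoidHom ≤ L := by
      rw [hL, MonoidHom.map_closure, closure_le]
      rintro _ ⟨x, hx, rfl⟩
      refine subset_closure ?_
      show orderOf (g * x * g⁻¹) = 11
      rw [CfsgLib.Perm.orderOf_conj_eq, hx]
    exact hmap (mem_map_of_mem _ ha)
  have hLN : ∀ n ∈ N, ∀ l ∈ L, l * n = n * l := by
    intro n hn l hl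
    have hle : L ≤ centralizer ({n} : Set G) := by
      rw [hL, closure_le]
      intro x hx
      exact mem_centralizer_singleton_iff.2 (centralizes_of_order_eleven N hN8 hx n hn)
    exact mem_centralizer_singleton_iff.1 (hle hl)
  have hLT : ∀ l ∈ L, π l ∈ T := by
    have hle : L ≤ T.comap π := by
      rw [hL, closure_le]
      exact fun x hx => hxT x hx
    exact fun l hl => hle hl
  obtain ⟨x₀, hx₀⟩ := exists_prime_orderOf_dvd_card' (G := G) 11 (by rw [hcard]; norm_num)
  have hx₀L : x₀ ∈ L := subset_closure hx₀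
  let σ : L →* T :=
    { toFun := fun l : L => ⟨π (l : G), hLT l l.2⟩
      map_one' := Subtype.ext (map_one π)
      map_mul' := fun a b => Subtype.ext (map_mul π (a : G) (b : G)) }
  haveI := hTn
  haveI := hTs
  have hσs : Function.Surjective σ := by
    rw [← MonoidHom.range_eq_top]
    have hn : σ.range.Normal := by
      refine ⟨?_⟩
      rintro _ ⟨l, rfl⟩ t
      obtain ⟨g, hg⟩ := QuotientGroup.mk'_surjective N (t : G ⧸ N)
      refine ⟨⟨g * l * g⁻¹, hLn.conj_mem _ l.2 g⟩, Subtype.ext ?_⟩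
      show π (g * l * g⁻¹) = (t : G ⧸ N) * π l * (t : G ⧸ N)⁻¹
      rw [map_mul, map_mul, map_inv, hπ, hg]
    refine hn.eq_bot_or_eq_top.resolve_left fun h => hxN x₀ hx₀ ?_
    have hm : σ ⟨x₀, hx₀L⟩ ∈ σ.range := ⟨_, rfl⟩
    rw [h, mem_bot] at hm
    exact congrArg Subtype.val hm
  have hker : ∀ l : L, l ∈ σ.ker → (l : G) ∈ N := fun l hl =>
    (QuotientGroup.eq_one_iff (l : G)).1 (congrArg Subtype.val (MonoidHom.mem_ker.1 hl))
  have hkc : σ.ker ≤ center L := fun l hl => mem_center_iff.2 fun m =>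
    Subtype.ext (hLN _ (hker l hl) m m.2)
  have hcardL : Nat.card σ.ker * Nat.card T = Nat.card L := by
    rw [← Nat.card_congr (QuotientGroup.quotientKerEquivOfSurjective σ hσs).toEquiv, mul_comm,
      ← Subgroup.card_eq_card_quotient_mul_card_subgroup]
  have hkN : ¬ 11 ∣ Nat.card σ.ker := by
    intro h
    obtain ⟨z, hz⟩ := exists_prime_orderOf_dvd_card' (G := σ.ker) 11 h
    have h1 := Subgroup.orderOf_dvd_natCard N (hker z z.2)
    rw [Subgroup.orderOf_coe, Subgroup.orderOf_coe, hz] at h1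
    exact hN h1
  -- an element of order eleven is not in an abelian normal subgroup
  by_cases hTc : IsMulCommutative T
  · exfalso
    have hT11 : Nat.card T = 11 := by
      letI : CommGroup T := { (inferInstance : Group T) with mul_comm := hTc.is_comm.comm }
      exact ((Nat.prime_dvd_prime_iff_eq hp11 IsSimpleGroup.prime_card).1 hrT).symm
    have hLab : ∀ a b : L, a * b = b * a := by
      haveI : IsCyclic T := isCyclic_of_prime_card hT11
      exact commutative_of_cyclic_center_quotient σ hkc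
    refine false_of_abelian_normal L (fun a ha b hb => congrArg Subtype.val (hLab ⟨a, ha⟩ ⟨b, hb⟩))
      ?_ h11
    intro h
    have h1 := L.card_mul_index
    rw [← hcardL, hT11, hcard] at h1
    have h2 : 11 * 11 ∣ 95040 := h1 ▸ Nat.mul_dvd_mul (dvd_mul_left 11 _) h
    norm_num at h2
  have hperf : commutator L = ⊤ := by
    rw [eq_top_iff]
    have hTperf : commutator T = ⊤ :=
      (Subgroup.Normal.eq_bot_or_eq_top (inferInstance : (commutator T).Normal)).resolve_left fun h =>
        hTc ((_root_.commutator_eq_bot_iff T).1 h)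
    have hmap : (commutator L).map σ = ⊤ := by
      rw [← hTperf, _root_.commutator_def, _root_.commutator_def, map_commutator, ← MonoidHom.range_eq_map,
        MonoidHom.range_eq_top.2 hσs]
    have hdec : ∀ l : L, ∃ c ∈ commutator L, ∃ z ∈ σ.ker, l = c * z := by
      intro l
      obtain ⟨c, hc, hce⟩ := (hmap.symm ▸ mem_top (σ l) : σ l ∈ (commutator L).map σ)
      exact ⟨c, hc, c⁻¹ * l, MonoidHom.mem_ker.2 (by rw [map_mul, map_inv, hce, inv_mul_cancel]),
        (mul_inv_cancel_left c l).symm⟩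
    have hgen : L ≤ (commutator L).map L.subtype := by
      conv_lhs => rw [hL]
      rw [closure_le]
      intro x hx
      have hxL : x ∈ L := subset_closure hx
      obtain ⟨c, hc, z, hz, hcz⟩ := hdec ⟨x, hxL⟩
      have hzc : Commute c z := (mem_center_iff.1 (hkc hz) c)
      have h1 : (⟨x, hxL⟩ : L) ^ Nat.card σ.ker ∈ commutator L := by
        rw [hcz, hzc.mul_pow]
        have h2 : z ^ Nat.card σ.ker = 1 := orderOf_dvd_iff_pow_eq_one.1 (Subgroup.orderOf_dvd_natCard _ hz)
        rw [h2, mul_one]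
        exact pow_mem hc _
      obtain ⟨m, hm⟩ := exists_pow_eq_self_of_coprime (x := (⟨x, hxL⟩ : L)) (n := Nat.card σ.ker)
        (by rw [Subgroup.orderOf_mk, hx]; exact ((Nat.Prime.coprime_iff_not_dvd hp11).2 hkN).symm)
      exact ⟨_, hm ▸ pow_mem h1 m, rfl⟩
    intro l _
    obtain ⟨l', hl', e⟩ := hgen l.2
    rwa [L.subtype_injective (e : L.subtype l' = L.subtype l)] at hl'
  have hstem : Cfsg.IsStemExtension σ := ⟨hσs, hkc, hperf ▸ le_top⟩
  rcases orders_eleven (G := T) hTc hrT ((dvd_mul_right _ _).trans hNT) with h660 | h7920 | h95040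
  · exfalso
    obtain ⟨χ, hχ⟩ := h55
    obtain ⟨θ, hθd, hθi⟩ := exists_constituent L χ
    have hidx : L.index ∣ 144 := by
      have h1 := L.card_mul_index
      rw [← hcardL, h660, hcard] at h1
      exact ⟨Nat.card σ.ker, Nat.eq_of_mul_eq_mul_left (show 0 < 660 by norm_num)
        (by rw [show 660 * 144 = 95040 by norm_num, ← h1]; ring)⟩
    have hcop : Nat.Coprime 55 (charDegree (χ : G → ℂ) / charDegree (θ : L → ℂ)) :=
      Nat.Coprime.coprime_dvd_right (hθi.trans hidx) (by norm_num)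
    have h55θ : 55 ∣ charDegree (θ : L → ℂ) := by
      refine hcop.dvd_of_dvd_mul_left ?_
      rwa [Nat.div_mul_cancel hθd]
    have hsq := CfsgLib.Coh.sq_charDegree_le_index θ ⊥ σ.ker
      (fun g hg => by rw [mem_bot.1 hg]) bot_le
      (fun d hd g => by rw [mem_bot, ← (mem_center_iff.1 (hkc hd) g), mul_inv_cancel_right, mul_inv_cancel])
    rw [index_ker, MonoidHom.range_eq_top.2 hσs, card_top, h660] at hsq
    have h55le : 55 ≤ charDegree (θ : L → ℂ) :=
      Nat.le_of_dvd (CfsgLib.CharDegree.charDegree_pos θ) h55θ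
    have := Nat.pow_le_pow_left h55le 2
    omega
  · right
    have := CfsgLib.Sporadic.sporM11_isSimple
    haveI := Fintype.ofFinite T
    obtain ⟨eT⟩ := CfsgLib.Blocks.Order7920.nonempty_mulEquiv (G := T) h7920
      CfsgLib.Sporadic.card_sporM11
    have hmult : CfsgLib.Schur.mult ↥Spor.M11 = ⊥ :=
      CfsgLib.Schur.hasCyclicSchurMultiplier_one_iff.1
        CfsgLib.Sporadic.MElevenMultiplier.multiplier_trivial
    have hker' : (eT.toMonoidHom.comp σ).ker = σ.ker :=
      Subgroup.ext fun z => by simp [MonoidHom.mem_ker]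
    obtain ⟨p, hp⟩ := CfsgLib.Schur.exists_mult_surj_ker (eT.toMonoidHom.comp σ)
      ⟨eT.surjective.comp hσs, hker' ▸ hstem.2.1, hker' ▸ hstem.2.2⟩
    have hkbot : σ.ker = ⊥ := by
      rw [← hker', Subgroup.eq_bot_iff_forall]
      intro z hz
      obtain ⟨⟨a, ha⟩, hu⟩ := hp ⟨z, hz⟩
      rw [hmult, mem_bot] at ha
      subst ha
      exact (congrArg Subtype.val hu).symm.trans (congrArg Subtype.val (map_one p))
    have hσi : Function.Injective σ := (MonoidHom.ker_eq_bot_iff σ).1 hkbot
    let eL : L ≃* ↥Spor.M11 := (MulEquiv.ofBijective σ ⟨hσi, hσs⟩).trans eT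
    have hLc : Nat.card L = 7920 := (Nat.card_congr eL.toEquiv).trans CfsgLib.Sporadic.card_sporM11
    haveI hLs : IsSimpleGroup L := CfsgLib.Sporadic.isSimple_congr eL.symm CfsgLib.Sporadic.sporM11_isSimple
    set C := centralizer (L : Set G) with hC
    have hdec : ∀ g : G, ∃ l ∈ L, ∃ c ∈ C, g = l * c := by
      intro g
      obtain ⟨l, hl⟩ := aut_inner_of_iso eL (MulAut.conjNormal g)
      refine ⟨l, l.2, (l : G)⁻¹ * g, mem_centralizer_iff.2 fun y hy => ?_,
        (mul_inv_cancel_left _ _).symm⟩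
      have h1 := congrArg Subtype.val (DFunLike.congr_fun hl ⟨y, hy⟩)
      rw [MulAut.conjNormal_apply] at h1
      change (l : G) * y * (l : G)⁻¹ = g * y * g⁻¹ at h1
      calc y * ((l : G)⁻¹ * g) = (l : G)⁻¹ * ((l : G) * y * (l : G)⁻¹) * g := by group
        _ = (l : G)⁻¹ * (g * y * g⁻¹) * g := by rw [h1]
        _ = (l : G)⁻¹ * g * y := by group
    have hLC : ∀ a ∈ L, a ∈ C → a = 1 := by
      intro a ha haC
      have hz : (⟨a, ha⟩ : L) ∈ center L := mem_center_iff.2 fun m =>
        Subtype.ext (mem_centralizer_iff.1 haC m m.2)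
      rcases (inferInstance : (center L).Normal).eq_bot_or_eq_top with h | h
      · rw [h, mem_bot] at hz
        exact congrArg Subtype.val hz
      · exfalso
        refine hTc ⟨⟨fun s t => ?_⟩⟩
        obtain ⟨s', rfl⟩ := hσs s
        obtain ⟨t', rfl⟩ := hσs t
        rw [← map_mul, ← map_mul, mem_center_iff.1 (h ▸ mem_top t' : t' ∈ center L) s']
    let ψ : L × C →* G :=
      { toFun := fun q => (q.1 : G) * q.2
        map_one' := by simp
        map_mul' := fun q q' => by
          show ((q.1 : G) * q'.1) * ((q.2 : G) * q'.2) = (q.1 : G) * q.2 * ((q'.1 : G) * q'.2)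
          rw [mul_assoc, mul_assoc, ← mul_assoc (q'.1 : G), mem_centralizer_iff.1 q.2.2 q'.1 q'.1.2,
            mul_assoc] }
    have hψ : Function.Bijective ψ := by
      refine ⟨(injective_iff_map_eq_one ψ).2 fun q hq => ?_, fun g => ?_⟩
      · change (q.1 : G) * q.2 = 1 at hq
        have h1 : (q.1 : G) = 1 := hLC _ q.1.2 (by rw [eq_inv_of_mul_eq_one_left hq]; exact inv_mem q.2.2)
        rw [h1, one_mul] at hq
        exact Prod.ext (Subtype.ext h1) (Subtype.ext hq)
      · obtain ⟨l, hl, c, hc, rfl⟩ := hdec g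
        exact ⟨(⟨l, hl⟩, ⟨c, hc⟩), rfl⟩
    have hCc : Nat.card C = 12 := by
      have h1 := Nat.card_congr (Equiv.ofBijective ψ hψ)
      rw [Nat.card_prod, hLc, hcard] at h1
      omega
    have hsix : ∀ a : C, orderOf a ≠ 6 := by
      intro a ha
      obtain ⟨χ, hχ⟩ := h33
      set A := zpowers (a : G) with hA
      have hAC : A ≤ C := zpowers_le.2 a.2
      have hAc : Nat.card A = 6 := by rw [hA, Nat.card_zpowers, Subgroup.orderOf_coe, ha]
      have hAn : ∀ c ∈ C, ∀ b ∈ A, c * b * c⁻¹ ∈ A := by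
        have hidx : ((zpowers a).index = 2) := by
          have h1 := (zpowers a).card_mul_index
          rw [Nat.card_zpowers, ha, hCc] at h1
          omega
        haveI := Subgroup.normal_of_index_eq_two hidx
        intro c hc b hb
        obtain ⟨i, rfl⟩ := mem_zpowers_iff.1 hb
        obtain ⟨j, hj⟩ := mem_zpowers_iff.1
          ((inferInstance : (zpowers a).Normal).conj_mem (a ^ i) (zpow_mem (mem_zpowers a) i) ⟨c, hc⟩)
        refine mem_zpowers_iff.2 ⟨j, ?_⟩
        have h2 := congrArg Subtype.val hj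
        push_cast at h2
        exact h2
      let φ : L × A →* G :=
        ψ.comp (MonoidHom.prodMap (MonoidHom.id L) (Subgroup.inclusion hAC))
      have hφ : Function.Injective φ := fun q q' h => by
        have h1 := hψ.1 h
        have h2 : (q.1, Subgroup.inclusion hAC q.2) = (q'.1, Subgroup.inclusion hAC q'.2) := h1
        obtain ⟨h3, h4⟩ := Prod.mk.inj h2
        exact Prod.ext h3 (Subgroup.inclusion_injective hAC h4)
      set H := φ.range with hH
      have hmemH : ∀ l ∈ L, ∀ b ∈ A, l * b ∈ H := fun l hl b hb => ⟨(⟨l, hl⟩, ⟨b, hb⟩), rfl⟩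
      haveI : H.Normal := by
        refine ⟨?_⟩
        rintro _ ⟨⟨l, b⟩, rfl⟩ g
        obtain ⟨m, hm, c, hc, rfl⟩ := hdec g
        show m * c * ((l : G) * b) * (m * c)⁻¹ ∈ H
        have e1 : m * c * ((l : G) * b) * (m * c)⁻¹ =
            m * (c * l * c⁻¹) * (c * b * c⁻¹) * m⁻¹ := by group
        have e2 : c * (l : G) * c⁻¹ = l := by
          rw [← mem_centralizer_iff.1 hc l l.2, mul_inv_cancel_right]
        have e3 : Commute (c * (b : G) * c⁻¹) m⁻¹ :=
          (show Commute (c * (b : G) * c⁻¹) m from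
            (mem_centralizer_iff.1 (hAC (hAn c hc b b.2)) m hm).symm).inv_right
        rw [e1, e2, mul_assoc _ (c * (b : G) * c⁻¹), e3.eq, ← mul_assoc]
        exact hmemH _ (mul_mem (mul_mem hm l.2) (inv_mem hm)) _ (hAn c hc b b.2)
      have hHc : Nat.card H = 7920 * 6 := by
        rw [hH, ← Nat.card_congr (MonoidHom.ofInjective hφ).toEquiv, Nat.card_prod, hLc, hAc]
      obtain ⟨θ, hθd, hθi⟩ := exists_constituent H χ
      have h33θ : 33 ∣ charDegree (θ : H → ℂ) := by
        have hidx : H.index = 2 := by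
          have h1 := H.card_mul_index
          rw [hHc, hcard] at h1
          omega
        rw [hidx] at hθi
        refine (Nat.Coprime.coprime_dvd_right hθi (by norm_num : Nat.Coprime 33 2)).dvd_of_dvd_mul_left ?_
        rwa [Nat.div_mul_cancel hθd]
      have hLH : L ≤ H := fun l hl => ⟨(⟨l, hl⟩, 1), by simp [φ, ψ]⟩
      have hAH : A ≤ H := fun b hb => ⟨(1, ⟨b, hb⟩), by simp [φ, ψ]⟩
      have hcen : A.subgroupOf H ≤ center H := by
        intro b hb
        refine mem_center_iff.2 ?_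
        rintro ⟨_, ⟨⟨l, b'⟩, rfl⟩⟩
        refine Subtype.ext ?_
        show (l : G) * b' * b = b * ((l : G) * b')
        have hbA : (b : G) ∈ A := mem_subgroupOf.1 hb
        obtain ⟨i, hi⟩ := mem_zpowers_iff.1 hbA
        obtain ⟨j, hj⟩ := mem_zpowers_iff.1 b'.2
        have c1 : Commute (l : G) b := mem_centralizer_iff.1 (hAC hbA) l l.2
        have c2 : Commute (b' : G) b := hi ▸ hj ▸ (Commute.refl (a : G)).zpow_zpow j i
        exact (c1.mul_left c2).eq
      have hbij : Function.Bijective fun q : L.subgroupOf H × A.subgroupOf H => (q.1 : H) * q.2 := by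
        refine ⟨?_, ?_⟩
        · rintro ⟨⟨⟨l, _⟩, hl⟩, ⟨⟨b, _⟩, hb⟩⟩ ⟨⟨⟨l', _⟩, hl'⟩, ⟨⟨b', _⟩, hb'⟩⟩ h
          have h1 : φ (⟨l, hl⟩, ⟨b, hb⟩) = φ (⟨l', hl'⟩, ⟨b', hb'⟩) := congrArg Subtype.val h
          obtain ⟨e1, e2⟩ := Prod.ext_iff.1 (hφ h1)
          have e1' : l = l' := congrArg Subtype.val e1
          have e2' : b = b' := congrArg Subtype.val e2
          subst e1' e2'
          rfl
        · rintro ⟨_, ⟨⟨l, b⟩, rfl⟩⟩
          exact ⟨(⟨⟨l, hLH l.2⟩, l.2⟩, ⟨⟨b, hAH b.2⟩, b.2⟩), Subtype.ext rfl⟩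
      obtain ⟨η, hη⟩ := exists_irr_of_central_complement _ _ hcen hbij θ
      haveI : IsSimpleGroup (L.subgroupOf H) :=
        CfsgLib.Sporadic.isSimple_congr (subgroupOfEquivOfLe hLH).symm hLs
      have hd := degree_mem_7920 ((Nat.card_congr (subgroupOfEquivOfLe hLH).toEquiv).trans hLc) η
      rw [hη] at hd
      simp only [List.mem_cons, List.not_mem_nil, or_false] at hd
      rcases hd with h | h | h | h | h | h | h <;> rw [h] at h33θ <;> norm_num at h33θ
    obtain ⟨eC⟩ := nonempty_alt_four hCc hsix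
    exact ⟨(MulEquiv.ofBijective ψ hψ).symm.trans (MulEquiv.prodComm.trans (eC.prodCongr eL))⟩
  · left
    have hN1 : Nat.card N = 1 := by
      rw [h95040] at hNT
      have h1 : 95040 * Nat.card N ∣ 95040 * 1 := by rwa [mul_one]
      exact Nat.dvd_one.1 (Nat.dvd_of_mul_dvd_mul_left (by norm_num) h1)
    have hNb : N = ⊥ := Subgroup.card_eq_one.1 hN1
    have hkb : σ.ker = ⊥ := by
      rw [Subgroup.eq_bot_iff_forall]
      intro z hz
      have h1 := hker z hz
      rw [hNb, mem_bot] at h1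
      exact Subtype.ext h1
    have hLtop : L = ⊤ := by
      refine eq_top_of_card_eq L ?_
      rw [← hcardL, hkb, Subgroup.card_bot, h95040, one_mul, hcard]
    have hGs : IsSimpleGroup G := CfsgLib.Sporadic.isSimple_congr
      ((MulEquiv.ofBijective σ ⟨(MonoidHom.ker_eq_bot_iff σ).1 hkb, hσs⟩).symm.trans
        ((MulEquiv.subgroupCongr hLtop).trans Subgroup.topEquiv)) hTs
    obtain ⟨e⟩ := Cfsg.Agent.S0421.result (G := G) ⟨hGs, hcard⟩ Spor.squareDodecad
      CfsgLib.Sporadic.squareDodecad_mem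
    exact ⟨e.trans CfsgLib.Sporadic.sporM12Equiv⟩

end CfsgLib.CharDegree.GraphMTwelve
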