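import Cfsg.Agent.Lib.Blocks.Order95040.Sylow
import Cfsg.Agent.Lib.Perm.SimpleOrders.Checker

/-!
Owner: helper11. Characters of small degree in the principal block at eleven.
-/

set_option autoImplicit false

namespace CfsgLib.CharDegree.GraphMTwelve

open Cfsg CfsgLib.Char CfsgLib.Blocks.PrimeSylow CfsgLib.Perm Subgroup
open CfsgLib.Blocks (charDegree_eq apply_one_eq_charDegree)
open CfsgLib.Blocks.Order95040 (deg principal_data)

/-- The orders left by the fixed point tests with inertial index two. -/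
def indexTwoOrders : List ℕ := [6336, 7920, 9504, 11880, 15840, 19008, 23760, 31680, 47520]

theorem index_two_degrees : ∀ n ∈ indexTwoOrders, ∀ d ∈ List.range 219, 2 ≤ d → n % d = 0 →
    d * d ≤ n →
    (d % 11 = 1 → n % (d + 1) = 0 → (d + 1) * (d + 1) ≤ n → d < 11) ∧
    (d % 11 = 10 → n % (d - 1) = 0 → (d - 1) * (d - 1) ≤ n → d < 11) := by
  decide +kernel

theorem index_two_lt : ∀ n ∈ indexTwoOrders, n ≤ 47520 := by decide +kernel

theorem index_ten_degrees : ∀ d ∈ List.range 178, 2 ≤ d → 31680 % d = 0 → d % 11 = 1 ∨ d % 11 = 10 →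
    d ∈ [10, 12, 32, 45, 120, 144, 176] := by
  decide +kernel

theorem index_ten_count : ∀ a ∈ List.range 2, ∀ d ∈ List.range 3, ∀ e ∈ List.range 2, ∀ g ∈ List.range 2,
    ∀ b ∈ List.range 11, ∀ t ∈ [1, 10, 12, 32, 45, 120, 144, 176], a + b + d + e + g ≤ 10 →
    a + 1024 * b + 2025 * (10 - (a + b + d + e + g)) + 14400 * d + 20736 * e + 30976 * g + t * t ≤ 31680 →
    (a + 45 * (10 - (a + b + d + e + g)) + 144 * e = 32 * b + 120 * d + 176 * g + t ∨
      a + 45 * (10 - (a + b + d + e + g)) + 144 * e + t = 32 * b + 120 * d + 176 * g) →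
    t = 10 ∨ t = 12 := by
  decide +kernel

variable {G : Type*} [Group G] [Fintype G]

omit [Fintype G] in
theorem deg_sq_le [Finite G] (χ : IrrCharacter G) : deg χ * deg χ ≤ Nat.card G := by
  haveI := Fintype.ofFinite G
  simpa using CfsgLib.Blocks.Order95040.sum_sq_deg_le ({χ} : Finset (IrrCharacter G))

variable [IsSimpleGroup G] (hnc : ¬ IsMulCommutative G)
include hnc

omit hnc in
theorem ne_one_of_ne_triv {χ : IrrCharacter G} (hperf : commutator G = ⊤) (hχ : χ ≠ trivChar G) :
    deg χ ≠ 1 := fun h => hχ (SelfCentDegree.eq_trivChar_of_degree_one hperf χ (by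
  rw [apply_one_eq_charDegree]; exact_mod_cast h))

/-- A small character with constant values along the centraliser leaves no `q`-element there. -/
theorem false_of_small {x v : G} (hx : orderOf x = 11) {q : ℕ} (hq : q.Prime) (hvq : orderOf v = q)
    (hc : Commute x v) (χ : IrrCharacter G) (h1 : deg χ ≠ 1)
    (hd : deg χ < 11 ∨ (q = 2 ∧ deg χ < 22))
    (hval : ∀ i, i < 11 → i ≠ 0 → (χ : G → ℂ) (x ^ i * v) = (χ : G → ℂ) (x ^ i)) : False := by
  have hp : Nat.Prime 11 := by norm_num
  have hv1 : v ≠ 1 := fun e0 => by rw [e0, orderOf_one] at hvq; exact hq.ne_one hvq.symm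
  rcases hd with hd | ⟨rfl, hd⟩
  · exact hv1 (ThreePrimeOrder.eq_one_of_apply_eq h1 (ThreePrimeOrder.apply_eq_of_deg_lt χ hp
      (orderOf_dvd_iff_pow_eq_one.1 (dvd_of_eq hx)) hd hval))
  have hu2 : v * v = 1 := by rw [← pow_two, ← hvq, pow_orderOf_eq_one]
  obtain ⟨k, hk⟩ := SelfCentDegree.exists_int_of_sq_eq_one χ hu2
  have h2p := ThreePrimeOrder.two_p_dvd_degree_sub hp (by norm_num) hx hvq hc hk hval
  have h4 := ThreePrimeOrder.four_dvd_degree_sub (ThreePrimeOrder.perfect_of_nc hnc) χ hu2 hk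
  have hle : |k| ≤ (deg χ : ℤ) := by
    have h := IsChar.norm_le (IsIrr.isCharacter χ.2) v
    rw [hk, apply_one_eq_charDegree, Complex.norm_intCast, Complex.norm_natCast] at h
    exact_mod_cast h
  obtain ⟨hle1, hle2⟩ := abs_le.1 hle
  have he : k = (deg χ : ℤ) := by
    obtain ⟨a, ha⟩ := h2p
    obtain ⟨b, hb⟩ := h4
    push_cast at ha
    change (deg χ : ℤ) - k = 2 * 11 * a at ha
    change (deg χ : ℤ) - k = 4 * b at hb
    omega
  exact hv1 (ThreePrimeOrder.eq_one_of_apply_eq h1 (by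
    rw [hk, apply_one_eq_charDegree, he, Int.cast_natCast]))

variable (P : Sylow 11 G) [Fact (Nat.Prime 11)] (hP : Nat.card (P : Subgroup G) = 11)
include hP

omit hnc [IsSimpleGroup G] hP in
theorem exists_commuting {q : ℕ} [Fact q.Prime] {V : Subgroup G} (hV : Setup 11 (P : Subgroup G) V)
    (hqV : q ∣ Nat.card V) : ∃ v ∈ V, orderOf v = q ∧ ∀ x ∈ (P : Subgroup G), Commute x v := by
  obtain ⟨v, hv⟩ := exists_prime_orderOf_dvd_card' (G := V) q hqV
  exact ⟨v, v.2, by rw [Subgroup.orderOf_coe, hv], fun x hx =>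
    mem_centralizer_iff.1 ((hV.mem_V _).1 v.2).1 x hx⟩

omit [IsSimpleGroup G] hnc in
theorem exists_x : ∃ x ∈ (P : Subgroup G), orderOf x = 11 := by
  obtain ⟨x, hx⟩ := exists_prime_orderOf_dvd_card' (G := (P : Subgroup G)) 11 (by rw [hP])
  exact ⟨x, x.2, by rw [Subgroup.orderOf_coe, hx]⟩

/-- Inertial index two leaves a self-centralising Sylow subgroup. -/
theorem false_of_index_two (hn : Nat.card G ∈ indexTwoOrders) {c : ℕ} (hc : 2 ≤ c)
    (hN : Nat.card (normalizer ((P : Subgroup G) : Set G)) = 2 * (11 * c))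
    (hC : Nat.card (centralizer ((P : Subgroup G) : Set G)) = 11 * c) : False := by
  classical
  obtain ⟨V, hV⟩ := exists_setup hP P.not_dvd_index
  have hcV : Nat.card V = c := by
    have := hV.card_centralizer
    rw [hC] at this
    omega
  obtain ⟨e, X, Y, εX, ε, -, hNe, hdisj, hXc, hYc, htriv, hX, hε, hYm, -, hrel, -⟩ :=
    principal_data hV
  have he : e = 2 := by
    rw [hN, hcV] at hNe
    exact (Nat.eq_of_mul_eq_mul_right (Nat.mul_pos (by norm_num) (by omega)) hNe).symm
  subst he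
  have hperf := ThreePrimeOrder.perfect_of_nc hnc
  have hdt : deg (trivChar G) = 1 := charDegree_eq (by rw [trivChar_apply, Nat.cast_one])
  have htX : trivChar G ∈ X := by
    refine (Finset.mem_union.1 htriv).resolve_right fun hY => ?_
    have h1 := hYm _ hY
    rw [hdt] at h1
    unfold Int.ModEq at h1
    rcases hε with rfl | rfl <;> omega
  obtain ⟨χ, hχ⟩ : ∃ χ, X.erase (trivChar G) = {χ} :=
    Finset.card_eq_one.1 (by rw [Finset.card_erase_of_mem htX, hXc])
  have hχX : χ ∈ X := Finset.mem_of_mem_erase (s := X) (by rw [hχ]; exact Finset.mem_singleton_self χ)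
  have hχne : χ ≠ trivChar G := Finset.ne_of_mem_erase (s := X) (by rw [hχ]; exact Finset.mem_singleton_self χ)
  obtain ⟨θ, hθ⟩ : Y.Nonempty := by rw [← Finset.card_pos]; omega
  obtain ⟨hs, hm, hval⟩ := hX χ hχX
  have ht1 : εX (trivChar G) = 1 := by
    obtain ⟨h1, h2, -⟩ := hX _ htX
    rw [hdt] at h2
    unfold Int.ModEq at h2
    omega
  have hr := hrel θ hθ
  rw [← Finset.add_sum_erase X _ htX, hχ, Finset.sum_singleton, ht1, hdt] at hr
  have hd2 : 2 ≤ deg χ := by
    have := ne_one_of_ne_triv (G := G) hperf hχne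
    have : 0 < deg χ := CfsgLib.CharDegree.charDegree_pos χ
    omega
  have hθd : Nat.card G % deg θ = 0 := Nat.mod_eq_zero_of_dvd (charDegree_dvd_card θ)
  have hlt : deg χ < 219 := by
    by_contra h
    have := Nat.mul_le_mul (Nat.le_of_not_lt h) (Nat.le_of_not_lt h)
    have := deg_sq_le χ
    have := index_two_lt _ hn
    omega
  have key := index_two_degrees _ hn (deg χ) (List.mem_range.2 hlt) hd2
    (Nat.mod_eq_zero_of_dvd (charDegree_dvd_card χ)) (deg_sq_le χ)
  have hθsq := deg_sq_le θ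
  have hθ0 : 0 < deg θ := CfsgLib.CharDegree.charDegree_pos θ
  have hd11 : deg χ < 11 := by
    unfold Int.ModEq at hm
    rcases hs with e1 | e1 <;> rw [e1] at hm hr
    · refine key.1 (by omega) ?_ ?_
      · rw [show deg χ + 1 = deg θ by rcases hε with e2 | e2 <;> rw [e2] at hr <;> omega]; exact hθd
      · rw [show deg χ + 1 = deg θ by rcases hε with e2 | e2 <;> rw [e2] at hr <;> omega]; exact hθsq
    · refine key.2 (by omega) ?_ ?_
      · rw [show deg χ - 1 = deg θ by rcases hε with e2 | e2 <;> rw [e2] at hr <;> omega]; exact hθd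
      · rw [show deg χ - 1 = deg θ by rcases hε with e2 | e2 <;> rw [e2] at hr <;> omega]; exact hθsq
  have : Fact c.minFac.Prime := ⟨Nat.minFac_prime (by omega)⟩
  obtain ⟨v, hvV, hvo, hcom⟩ := exists_commuting P hV (q := c.minFac) (hcV ▸ Nat.minFac_dvd c)
  obtain ⟨x, hxP, hxo⟩ := exists_x P hP
  refine false_of_small hnc hxo this.out hvo (hcom x hxP) χ (ne_one_of_ne_triv hperf hχne)
    (Or.inl hd11) fun i hi hi0 => ?_
  have hne : x ^ i ≠ 1 := fun h => by
    have h1 := Nat.le_of_dvd (by omega) (orderOf_dvd_of_pow_eq_one h)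
    omega
  have h1 := hval i 1 x hxP v hvV hne
  have h0 := hval i 0 x hxP v hvV hne
  rw [pow_one] at h1
  rw [pow_zero, mul_one] at h0
  rw [h1, h0]

/-- Inertial index ten with a central involution. -/
theorem false_of_index_ten (hn : Nat.card G = 31680)
    (hN : Nat.card (normalizer ((P : Subgroup G) : Set G)) = 10 * (11 * 2))
    (hC : Nat.card (centralizer ((P : Subgroup G) : Set G)) = 11 * 2) : False := by
  classical
  obtain ⟨V, hV⟩ := exists_setup hP P.not_dvd_index
  have hcV : Nat.card V = 2 := by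
    have := hV.card_centralizer
    rw [hC] at this
    omega
  obtain ⟨e, X, Y, εX, ε, -, hNe, hdisj, hXc, hYc, htriv, hX, hε, hYm, hrelg, hrel, -⟩ :=
    principal_data hV
  have he : e = 10 := by
    rw [hN, hcV] at hNe
    omega
  subst he
  have hperf := ThreePrimeOrder.perfect_of_nc hnc
  obtain ⟨x, hxP, hxo⟩ := exists_x P hP
  have : Fact (Nat.Prime 2) := ⟨Nat.prime_two⟩
  obtain ⟨v, hvV, hvo, hcom⟩ := exists_commuting P hV (q := 2) (by rw [hcV])
  obtain ⟨θ, hθ⟩ : Y.Nonempty := by rw [← Finset.card_pos]; omega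
  have hbig : ∀ χ ∈ X, χ ≠ trivChar G → 22 ≤ deg χ := by
    intro χ hχ hne
    by_contra hlt
    refine false_of_small hnc hxo Nat.prime_two hvo (hcom x hxP) χ (ne_one_of_ne_triv hperf hne)
      (Or.inr ⟨rfl, by omega⟩) fun i hi hi0 => ?_
    have hne' : x ^ i ≠ 1 := fun h => by
      have h1 := Nat.le_of_dvd (by omega) (orderOf_dvd_of_pow_eq_one h)
      omega
    have h1 := (hX χ hχ).2.2 i 1 x hxP v hvV hne'
    have h0 := (hX χ hχ).2.2 i 0 x hxP v hvV hne'
    rw [pow_one] at h1
    rw [pow_zero, mul_one] at h0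
    rw [h1, h0]
  have hvv : v * v = 1 := by rw [← pow_two, ← hvo, pow_orderOf_eq_one]
  choose w hw using fun χ : IrrCharacter G => SelfCentDegree.exists_int_of_sq_eq_one χ hvv
  have hv1 : v ≠ 1 := fun e0 => by rw [e0, orderOf_one] at hvo; omega
  -- a character in `Y` of small degree is trivial at the involution
  have hθbig : θ ≠ trivChar G → 22 ≤ deg θ := by
    intro hne
    by_contra hlt
    have hdiv : ∀ χ ∈ X, (44 : ℤ) ∣ εX χ * ((deg χ : ℤ) - w χ) := by
      intro χ hχ
      refine Dvd.dvd.mul_left ?_ _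
      obtain ⟨a, ha⟩ := ThreePrimeOrder.two_p_dvd_degree_sub (p := 11) (χ := χ) (by norm_num) (by norm_num) hxo
        hvo (hcom x hxP) (hw χ) fun i hi hi0 => by
          have hne' : x ^ i ≠ 1 := fun h => by
            have h1 := Nat.le_of_dvd (by omega) (orderOf_dvd_of_pow_eq_one h)
            omega
          have h1 := (hX χ hχ).2.2 i 1 x hxP v hvV hne'
          have h0 := (hX χ hχ).2.2 i 0 x hxP v hvV hne'
          rw [pow_one] at h1
          rw [pow_zero, mul_one] at h0
          rw [h1, h0]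
      obtain ⟨b, hb⟩ := ThreePrimeOrder.four_dvd_degree_sub hperf χ hvv (hw χ)
      push_cast at ha
      change (deg χ : ℤ) - w χ = 2 * 11 * a at ha
      change (deg χ : ℤ) - w χ = 4 * b at hb
      change (44 : ℤ) ∣ (deg χ : ℤ) - w χ
      omega
    have h1 := hrelg θ hθ v (by rw [hvo]; norm_num)
    simp only [hw] at h1
    have h1' : ε * w θ = ∑ χ ∈ X, εX χ * w χ := by exact_mod_cast h1
    have h2 : (44 : ℤ) ∣ ε * ((deg θ : ℤ) - w θ) := by
      rw [mul_sub, hrel θ hθ, h1', ← Finset.sum_sub_distrib]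
      exact Finset.dvd_sum fun χ hχ => by rw [← mul_sub]; exact hdiv χ hχ
    have hle : |w θ| ≤ (deg θ : ℤ) := by
      have h := IsChar.norm_le (IsIrr.isCharacter θ.2) v
      rw [hw θ, apply_one_eq_charDegree, Complex.norm_intCast, Complex.norm_natCast] at h
      exact_mod_cast h
    obtain ⟨hle1, hle2⟩ := abs_le.1 hle
    have heq : w θ = (deg θ : ℤ) := by rcases hε with e1 | e1 <;> rw [e1] at h2 <;> omega
    exact hv1 (ThreePrimeOrder.eq_one_of_apply_eq (ne_one_of_ne_triv hperf hne) (by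
      rw [hw θ, apply_one_eq_charDegree, heq, Int.cast_natCast]))
  let s : ℕ → ℤ := fun d => if d % 11 = 1 then 1 else -1
  have hXd : ∀ χ ∈ X, εX χ = s (deg χ) ∧ deg χ ∈ [1, 32, 45, 120, 144, 176] := by
    intro χ hχ
    obtain ⟨h1, h2, -⟩ := hX χ hχ
    unfold Int.ModEq at h2
    have hmod : deg χ % 11 = 1 ∧ εX χ = 1 ∨ deg χ % 11 = 10 ∧ εX χ = -1 := by
      rcases h1 with e1 | e1 <;> rw [e1] at h2 ⊢ <;> omega
    refine ⟨by rcases hmod with ⟨a, b⟩ | ⟨a, b⟩ <;> simp [s, a, b], ?_⟩
    by_cases hχ1 : χ = trivChar G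
    · rw [hχ1, show deg (trivChar G) = 1 from charDegree_eq (by rw [trivChar_apply, Nat.cast_one])]
      simp
    have h22 := hbig χ hχ hχ1
    have hd : 31680 % deg χ = 0 := hn ▸ Nat.mod_eq_zero_of_dvd (charDegree_dvd_card χ)
    have hsq := deg_sq_le χ
    rw [hn] at hsq
    have hlt : deg χ < 178 := by
      by_contra h
      have := Nat.mul_le_mul (Nat.le_of_not_lt h) (Nat.le_of_not_lt h)
      omega
    have := index_ten_degrees _ (List.mem_range.2 hlt) (by omega) hd (by omega)
    simp only [List.mem_cons, List.not_mem_nil, or_false] at this ⊢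
    omega
  set f : ℕ → ℕ := fun d => (X.filter fun χ => deg χ = d).card with hf
  have hfib : ∀ g : ℕ → ℤ, ∑ χ ∈ X, g (deg χ) =
      f 1 * g 1 + f 32 * g 32 + f 45 * g 45 + f 120 * g 120 + f 144 * g 144 + f 176 * g 176 := by
    intro g
    have h := Finset.sum_fiberwise_of_maps_to (s := X) (t := ({1, 32, 45, 120, 144, 176} : Finset ℕ))
      (g := fun χ => deg χ) (fun χ hχ => by simpa using (hXd χ hχ).2) (fun χ => g (deg χ))
    rw [← h]
    have h' : ∀ d : ℕ, ∑ χ ∈ X.filter (fun χ => deg χ = d), g (deg χ) = f d * g d := fun d => by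
      rw [Finset.sum_congr rfl fun χ hχ => by rw [(Finset.mem_filter.1 hχ).2], Finset.sum_const,
        nsmul_eq_mul]
    simp only [Finset.sum_insert, Finset.mem_insert, Finset.mem_singleton, Finset.sum_singleton, h',
      Nat.reduceEqDiff, or_self, not_false_eq_true]
    ring
  have hcnt := hfib fun _ => 1
  have hsum := hfib fun d => s d * d
  rw [Finset.sum_const, hXc] at hcnt
  simp only [s, Nat.reduceMod, if_true, if_false, Nat.reduceEqDiff, nsmul_eq_mul] at hsum hcnt
  have hr := hrel θ hθ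
  rw [Finset.sum_congr rfl fun χ hχ => by rw [(hXd χ hχ).1]] at hr
  rw [show (∑ χ ∈ X, s (deg χ) * (deg χ : ℤ)) = _ from hsum] at hr
  have hθm := hYm θ hθ
  unfold Int.ModEq at hθm
  have hθd : 31680 % deg θ = 0 := hn ▸ Nat.mod_eq_zero_of_dvd (charDegree_dvd_card θ)
  have hone : f 1 ≤ 1 := by
    refine Finset.card_le_one.2 fun a ha b hb => ?_
    have ha' : a = trivChar G := by_contra fun h => ne_one_of_ne_triv hperf h (Finset.mem_filter.1 ha).2
    have hb' : b = trivChar G := by_contra fun h => ne_one_of_ne_triv hperf h (Finset.mem_filter.1 hb).2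
    rw [ha', hb']
  have hsq := CfsgLib.Blocks.Order95040.sum_sq_deg_le (X ∪ Y)
  rw [Finset.sum_union hdisj, hn] at hsq
  have hθle : deg θ * deg θ ≤ ∑ χ ∈ Y, deg χ * deg χ :=
    Finset.single_le_sum (f := fun χ => deg χ * deg χ) (fun _ _ => Nat.zero_le _) hθ
  have hXsq := hfib fun d => d * d
  have hXsq' : ((∑ χ ∈ X, deg χ * deg χ : ℕ) : ℤ) = ∑ χ ∈ X, (deg χ : ℤ) * deg χ := by push_cast; rfl
  rw [hXsq] at hXsq'
  -- the degree of the last character
  have hθlt : deg θ < 178 := by
    by_contra h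
    have := Nat.mul_le_mul (Nat.le_of_not_lt h) (Nat.le_of_not_lt h)
    omega
  have hS : (f 1 : ℤ) + f 32 * 1024 + f 45 * 2025 + f 120 * 14400 + f 144 * 20736 + f 176 * 30976 +
      (deg θ : ℤ) * deg θ ≤ 31680 := by
    have hθle' : (deg θ : ℤ) * deg θ ≤ ((∑ χ ∈ Y, deg χ * deg χ : ℕ) : ℤ) := by exact_mod_cast hθle
    have hsq' : ((∑ χ ∈ X, deg χ * deg χ : ℕ) : ℤ) + ((∑ χ ∈ Y, deg χ * deg χ : ℕ) : ℤ) ≤ 31680 := by
      exact_mod_cast hsq
    push_cast at hXsq' hsq' hθle' ⊢
    linarith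
  have h120 : f 120 = 0 ∨ f 120 = 1 ∨ f 120 = 2 := by have := mul_self_nonneg (deg θ : ℤ); omega
  have h144 : f 144 = 0 ∨ f 144 = 1 := by have := mul_self_nonneg (deg θ : ℤ); omega
  have h176 : f 176 = 0 ∨ f 176 = 1 := by have := mul_self_nonneg (deg θ : ℤ); omega
  have ht : deg θ ∈ [1, 10, 12, 32, 45, 120, 144, 176] := by
    by_cases hθ1 : θ = trivChar G
    · rw [show deg θ = 1 by rw [hθ1]; exact charDegree_eq (by rw [trivChar_apply, Nat.cast_one])]
      exact List.mem_cons_self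
    · have := ne_one_of_ne_triv hperf hθ1
      have h22 := hθbig hθ1
      exact List.mem_cons_of_mem _ (index_ten_degrees _ (List.mem_range.2 hθlt) (by omega) hθd
        (by rcases hε with e | e <;> rw [e] at hθm <;> omega))
  have h45 : f 45 = 10 - (f 1 + f 32 + f 120 + f 144 + f 176) := by omega
  have hS' : f 1 + 1024 * f 32 + 2025 * f 45 + 14400 * f 120 + 20736 * f 144 + 30976 * f 176 +
      deg θ * deg θ ≤ 31680 := by
    have : ((f 1 + 1024 * f 32 + 2025 * f 45 + 14400 * f 120 + 20736 * f 144 + 30976 * f 176 +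
        deg θ * deg θ : ℕ) : ℤ) ≤ 31680 := by push_cast; linarith
    exact_mod_cast this
  have hlin : f 1 + 45 * f 45 + 144 * f 144 = 32 * f 32 + 120 * f 120 + 176 * f 176 + deg θ ∨
      f 1 + 45 * f 45 + 144 * f 144 + deg θ = 32 * f 32 + 120 * f 120 + 176 * f 176 := by
    rcases hε with e | e <;> rw [e] at hr
    · left; omega
    · right; omega
  rw [h45] at hS' hlin
  have hfin := index_ten_count (f 1) (List.mem_range.2 (by omega)) (f 120) (List.mem_range.2 (by omega))
    (f 144) (List.mem_range.2 (by omega)) (f 176) (List.mem_range.2 (by omega)) (f 32)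
    (List.mem_range.2 (by omega)) (deg θ) ht (by omega) hS' hlin
  by_cases hθ1 : θ = trivChar G
  · have : deg θ = 1 := by rw [hθ1]; exact charDegree_eq (by rw [trivChar_apply, Nat.cast_one])
    omega
  · have := hθbig hθ1
    omega

end CfsgLib.CharDegree.GraphMTwelve
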