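import Cfsg.Agent.Lib.Perm.SylowFixed
import Cfsg.Agent.Lib.Blocks.PrimeSylow.Data
import Mathlib.GroupTheory.GroupAction.Quotient

/-!
Owner: helper11. A subgroup of index twelve forces a self-centralising Sylow subgroup of order eleven,
and a normalised subgroup of prime order in the centraliser gives such a subgroup.
-/

set_option autoImplicit false

namespace CfsgLib.CharDegree.GraphMTwelve

open Subgroup CfsgLib.Perm

variable {G : Type*} [Group G] [Finite G] [IsSimpleGroup G]

/-- In a simple group with a subgroup of index twelve an element commuting with an element of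
order eleven lies in its powers. -/
theorem eq_one_of_index_twelve {K : Subgroup G} (hK : K.index = 12) {x v : G} (hx : orderOf x = 11)
    {q : ℕ} (hq : q.Prime) (hq11 : q ≠ 11) (hv : v ^ q = 1) (hc : Commute x v) : v = 1 := by
  classical
  have hfaith : ∀ g : G, (∀ a : G ⧸ K, g • a = a) → g = 1 := by
    intro g hg
    have hmem : g ∈ K.normalCore := by
      rw [Subgroup.normalCore_eq_ker, MonoidHom.mem_ker]
      exact Equiv.ext hg
    rcases (Subgroup.normalCore_normal K).eq_bot_or_eq_top with h | h
    · rwa [h, mem_bot] at hmem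
    · have : K = ⊤ := top_le_iff.1 (h ▸ Subgroup.normalCore_le K)
      rw [this, index_top] at hK
      norm_num at hK
  have hcard : Nat.card (G ⧸ K) = 12 := hK
  -- a point moved by `x`
  obtain ⟨a, ha⟩ : ∃ a : G ⧸ K, x • a ≠ a := by
    by_contra h
    push Not at h
    rw [hfaith x h, orderOf_one] at hx
    norm_num at hx
  have hpow : ∀ i : ℕ, x ^ i • a = a → 11 ∣ i := by
    intro i hi
    by_contra hd
    have hcop : i.Coprime (orderOf x) := by
      rw [hx]; exact (Nat.Prime.coprime_iff_not_dvd (by norm_num)).2 hd |>.symm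
    obtain ⟨m, hm⟩ := exists_pow_eq_self_of_coprime hcop
    refine ha ?_
    rw [← hm]
    exact (MulAction.mem_stabilizer_iff (a := a)).1 (pow_mem (MulAction.mem_stabilizer_iff.2 hi) m)
  have hinj : Function.Injective fun i : Fin 11 => x ^ (i : ℕ) • a := by
    intro i j h
    rcases le_total (i : ℕ) j with hle | hle
    · have h' : x ^ ((j : ℕ) - i) • a = a := by
        have := h.symm
        simp only at this
        rw [← Nat.sub_add_cancel hle, pow_add, mul_smul, ← mul_smul, ← pow_add, Nat.add_comm,
          pow_add, mul_smul] at this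
        exact (MulAction.injective _) this
      have := hpow _ h'
      have := j.2
      exact Fin.ext (by omega)
    · have h' : x ^ ((i : ℕ) - j) • a = a := by
        have := h
        simp only at this
        rw [← Nat.sub_add_cancel hle, pow_add, mul_smul, ← mul_smul, ← pow_add, Nat.add_comm,
          pow_add, mul_smul] at this
        exact (MulAction.injective _) this
      have := hpow _ h'
      have := i.2
      exact Fin.ext (by omega)
  haveI := Fintype.ofFinite (G ⧸ K)
  set O := Finset.univ.image fun i : Fin 11 => x ^ (i : ℕ) • a with hO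
  have hOc : O.card = 11 := by rw [hO, Finset.card_image_of_injective _ hinj, Finset.card_univ, Fintype.card_fin]
  have hrest : ∀ b c : G ⧸ K, b ∉ O → c ∉ O → b = c := by
    have h1 : (Finset.univ \ O).card = 1 := by
      rw [Finset.card_sdiff, Finset.inter_univ, hOc, Finset.card_univ, ← Nat.card_eq_fintype_card, hcard]
    intro b c hb hc'
    exact Finset.card_le_one.1 h1.le b (by simp [hb]) c (by simp [hc'])
  have hxO : ∀ i : ℕ, x ^ i • a ∈ O := fun i => by
    rw [← pow_mod_orderOf, hx, hO]
    exact Finset.mem_image.2 ⟨⟨i % 11, Nat.mod_lt _ (by norm_num)⟩, Finset.mem_univ _, rfl⟩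
  have hxb : ∀ b : G ⧸ K, b ∉ O → x • b = b := by
    intro b hb
    refine hrest _ _ (fun h => hb ?_) hb
    obtain ⟨i, -, hi⟩ := Finset.mem_image.1 (hO ▸ h)
    have : b = x ^ ((i : ℕ) + 10) • a := by
      have e : x ^ 11 = 1 := hx ▸ pow_orderOf_eq_one x
      calc b = x ^ 11 • b := by rw [e, one_smul]
        _ = x ^ 10 • x • b := by rw [← mul_smul, ← pow_succ]
        _ = x ^ 10 • x ^ (i : ℕ) • a := by rw [hi]
        _ = x ^ ((i : ℕ) + 10) • a := by rw [← mul_smul, ← pow_add, Nat.add_comm]
    exact this ▸ hxO _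
  have hvO : v • a ∈ O := by
    by_contra h
    have h1 := hxb _ h
    rw [← mul_smul, hc.eq, mul_smul] at h1
    exact ha (MulAction.injective v h1)
  obtain ⟨i, -, hi⟩ := Finset.mem_image.1 (hO ▸ hvO)
  have hvi : ∀ m : ℕ, v ^ m • a = x ^ (m * (i : ℕ)) • a := by
    intro m
    induction m with
    | zero => simp
    | succ m ih =>
      rw [pow_succ', mul_smul, ih, ← mul_smul, ← (hc.pow_left (m * (i : ℕ))).eq, mul_smul, ← hi,
        ← mul_smul, ← pow_add, Nat.succ_mul]
  have h11 : 11 ∣ q * (i : ℕ) := hpow _ (by rw [← hvi, hv, one_smul])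
  have hi0 : (i : ℕ) = 0 := by
    rcases (Nat.Prime.dvd_mul (by norm_num)).1 h11 with h | h
    · exact absurd ((Nat.prime_dvd_prime_iff_eq (by norm_num) hq).1 h).symm hq11
    · have := i.2
      omega
  have hva : v • a = a := by rw [← hi, hi0, pow_zero, one_smul]
  refine hfaith v fun b => ?_
  have hfixO : ∀ j : ℕ, v • x ^ j • a = x ^ j • a := fun j => by
    rw [← mul_smul, ← (hc.pow_left j).eq, mul_smul, hva]
  by_cases hb : b ∈ O
  · obtain ⟨j, -, rfl⟩ := Finset.mem_image.1 (hO ▸ hb)
    exact hfixO _
  · refine hrest _ _ (fun h => hb ?_) hb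
    obtain ⟨j, -, hj⟩ := Finset.mem_image.1 (hO ▸ h)
    have : b = x ^ (j : ℕ) • a := MulAction.injective v ((hj.symm).trans (hfixO _).symm)
    exact this ▸ hxO _

omit [Finite G] [IsSimpleGroup G] in
theorem centralizer_le_normalizer_zpowers {v : G} :
    centralizer ({v} : Set G) ≤ normalizer ((zpowers v : Subgroup G) : Set G) := fun c hc =>
  centralizer_le_normalizer _ (mem_centralizer_iff.2 fun y hy => by
    obtain ⟨j, rfl⟩ := mem_zpowers_iff.1 hy
    exact ((show Commute c v from mem_centralizer_singleton_iff.1 hc).zpow_right j).eq.symm)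

/-- A subgroup of prime order in the centraliser normalised by the normaliser of `P`. -/
theorem false_of_normalized [Fact (Nat.Prime 11)] (P : Sylow 11 G)
    (hall : ∀ R : Sylow 11 G, Nat.card (R : Subgroup G) = 11)
    (hk : Nat.card (Sylow 11 G) = 144) {e : ℕ}
    (he : ∀ R : Sylow 11 G, ∀ g ∈ normalizer ((R : Subgroup G) : Set G),
      g ^ e ∈ centralizer ((R : Subgroup G) : Set G))
    {v : G} {q : ℕ} (hq : q.Prime) (hq23 : q = 2 ∨ q = 3) (hqe : q.Coprime e) (hv : orderOf v = q)
    (hvP : v ∈ centralizer ((P : Subgroup G) : Set G))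
    (hN : normalizer ((P : Subgroup G) : Set G) ≤ normalizer ((zpowers v : Subgroup G) : Set G)) :
    False := by
  classical
  have : Fact q.Prime := ⟨hq⟩
  have hv1 : v ≠ 1 := fun h => by rw [h, orderOf_one] at hv; exact hq.ne_one hv.symm
  set K := normalizer ((zpowers v : Subgroup G) : Set G) with hKdef
  -- fixed Sylow subgroups are centralised
  have hfix : ∀ R : Sylow 11 G, v • R = R → (R : Subgroup G) ≤ centralizer ({v} : Set G) := by
    intro R hR
    have h1 := he R v (Sylow.smul_eq_iff_mem_normalizer.1 hR)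
    obtain ⟨m, hm⟩ := exists_pow_eq_self_of_coprime (x := v) (n := e) (by rw [hv]; exact hqe.symm)
    have h2 : v ∈ centralizer ((R : Subgroup G) : Set G) := hm ▸ pow_mem h1 m
    intro r hr
    exact mem_centralizer_singleton_iff.2 (mem_centralizer_iff.1 h2 r hr)
  have hmod := card_fixedSylows_modEq P (hall P) hvP
  have hgrp : IsPGroup q (zpowers v) := IsPGroup.of_card (n := 1) (by rw [Nat.card_zpowers, hv, pow_one])
  have h3 := hgrp.card_modEq_card_fixedPoints (Sylow 11 G)
  have heq : Nat.card (MulAction.fixedPoints (zpowers v) (Sylow 11 G)) = Nat.card (fixedSylows 11 v) := by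
    refine Nat.card_congr (Equiv.subtypeEquivRight fun S => ⟨fun h => h ⟨v, mem_zpowers v⟩, fun h u => ?_⟩)
    exact MulAction.mem_stabilizer_iff.1
      (zpowers_le.2 (MulAction.mem_stabilizer_iff.2 h : v ∈ MulAction.stabilizer G S) u.2)
  rw [hk, heq] at h3
  -- the fixed Sylow subgroups form one orbit of the normaliser
  have hPv : (P : Subgroup G) ≤ K := le_trans (fun r hr =>
    mem_centralizer_singleton_iff.2 (mem_centralizer_iff.1 hvP r hr))
    centralizer_le_normalizer_zpowers
  have horb : ∀ R : Sylow 11 G, v • R = R ↔ ∃ g ∈ K, g • P = R := by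
    intro R
    constructor
    · intro hR
      have hRK : (R : Subgroup G) ≤ K := (hfix R hR).trans
        centralizer_le_normalizer_zpowers
      obtain ⟨g, hg⟩ := MulAction.exists_smul_eq K (P.subtype hPv) (R.subtype hRK)
      exact ⟨g, g.2, Sylow.subtype_injective (by rw [← hg]; exact (Sylow.smul_subtype hPv g).symm)⟩
    · rintro ⟨g, hg, rfl⟩
      rw [Sylow.smul_eq_iff_mem_normalizer]
      show v ∈ normalizer ((((g • P : Sylow 11 G)) : Subgroup G) : Set G)
      rw [Sylow.coe_subgroup_smul]
      refine centralizer_le_normalizer _ (mem_centralizer_iff.2 fun r hr => ?_)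
      obtain ⟨r0, hr0, rfl⟩ := mem_smul_pointwise_iff_exists _ _ _ |>.1 hr
      show g * r0 * g⁻¹ * v = v * (g * r0 * g⁻¹)
      obtain ⟨j, hj⟩ := mem_zpowers_iff.1 ((mem_normalizer_iff.1 (inv_mem hg) v).1 (mem_zpowers v))
      have hcomm : Commute r0 (g⁻¹ * v * g) := by
        have e1 : g⁻¹ * v * g = v ^ j := by rw [hj, inv_inv]
        rw [e1]
        exact Commute.zpow_right (mem_centralizer_iff.1 hvP r0 hr0) j
      calc g * r0 * g⁻¹ * v = g * (r0 * (g⁻¹ * v * g)) * g⁻¹ := by group
        _ = g * (g⁻¹ * v * g * r0) * g⁻¹ := by rw [hcomm.eq]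
        _ = v * (g * r0 * g⁻¹) := by group
  have hF : Nat.card (fixedSylows 11 v) * Nat.card (normalizer ((P : Subgroup G) : Set G)) = Nat.card K := by
    have hst : Nat.card (MulAction.orbit K P) * Nat.card (MulAction.stabilizer K P) = Nat.card K := by
      rw [← Nat.card_prod]
      exact Nat.card_congr (MulAction.orbitProdStabilizerEquivGroup K P)
    rw [← hst]
    congr 1
    · refine Nat.card_congr (Equiv.subtypeEquivRight fun R => ?_)
      refine (horb R).trans ⟨?_, ?_⟩
      · rintro ⟨g, hg, rfl⟩; exact ⟨⟨g, hg⟩, rfl⟩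
      · rintro ⟨g, rfl⟩; exact ⟨g, g.2, rfl⟩
    · exact Nat.card_congr
        { toFun := fun g => ⟨⟨g.1, hN g.2⟩, Sylow.smul_eq_iff_mem_normalizer.2 g.2⟩
          invFun := fun g => ⟨(g.1 : G), Sylow.smul_eq_iff_mem_normalizer.1 g.2⟩
          left_inv := fun g => rfl
          right_inv := fun g => rfl }
  have hG : 144 * Nat.card (normalizer ((P : Subgroup G) : Set G)) = Nat.card G := by
    rw [← hk, Sylow.card_eq_index_normalizer P]; exact index_mul_card _
  set F := Nat.card (fixedSylows 11 v)
  have hKG := K.card_mul_index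
  rw [← hF, ← hG] at hKG
  have hFK : F * K.index = 144 := Nat.eq_of_mul_eq_mul_right (Nat.card_pos (α := normalizer ((P : Subgroup G) : Set G)))
    (by rw [← hKG]; ring)
  have hdiv : F ∣ 144 := ⟨_, hFK.symm⟩
  have hmem := (Nat.mem_divisors.2 ⟨hdiv, by norm_num⟩ : F ∈ Nat.divisors 144)
  have hcases : ∀ d ∈ Nat.divisors 144, d % 11 = 1 → d = 1 ∨ d = 12 ∨ d = 144 := by decide
  rcases hcases F hmem hmod with h | h | h
  · rw [h] at h3
    unfold Nat.ModEq at h3
    rcases hq23 with rfl | rfl <;> omega
  · obtain ⟨x, hx⟩ := exists_prime_orderOf_dvd_card' (G := (P : Subgroup G)) 11 (by rw [hall P])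
    refine hv1 (eq_one_of_index_twelve (K := K) (by rw [h] at hFK; omega) (x := x)
      (by rw [Subgroup.orderOf_coe, hx]) hq (by omega) (by rw [← hv, pow_orderOf_eq_one]) ?_)
    exact mem_centralizer_iff.1 hvP x x.2
  · rw [h] at hFK
    have htop : K = ⊤ := index_eq_one.1 (by omega)
    rcases (normalizer_eq_top_iff.1 htop).eq_bot_or_eq_top with e' | e'
    · exact hv1 (zpowers_eq_bot.1 e')
    · have hcard : Nat.card G = q := by rw [← card_top, ← e', Nat.card_zpowers, hv]
      have := (P : Subgroup G).card_subgroup_dvd_card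
      rw [hcard, hall P] at this
      have := Nat.le_of_dvd hq.pos this
      omega

end CfsgLib.CharDegree.GraphMTwelve
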